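-- Bender-Glauberman Section 11 tool T5: a fixed-point-free element of prime order and an
-- abelian subgroup of coprime order that it normalizes.
import Mathlib
import Cfsg.Prelude.Def_OddOrderLocal
import Cfsg.Agent.S0033
import Cfsg.Agent.Lib.Helper1.CoprimeAbelian
import Cfsg.Agent.Lib.Helper65.Cover
import Cfsg.Agent.Lib.Helper31.BG.SigmaHall

set_option autoImplicit false

namespace Cfsg.Agent.Lib.Helper98.BG

open Subgroup
open scoped commutatorElement

/-- Elements of `N ⊔ H` are products when `H` normalizes `N`. -/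
theorem exists_mul_of_mem_sup_norm {G : Type*} [Group G] {N H : Subgroup G}
    (hH : H ≤ normalizer (N : Set G)) {x : G} (hx : x ∈ N ⊔ H) :
    ∃ n ∈ N, ∃ h ∈ H, x = n * h := by
  let S : Subgroup G :=
    { carrier := {x | ∃ n ∈ N, ∃ h ∈ H, x = n * h}
      mul_mem' := by
        rintro _ _ ⟨n₁, hn₁, h₁, hh₁, rfl⟩ ⟨n₂, hn₂, h₂, hh₂, rfl⟩
        refine ⟨n₁ * (h₁ * n₂ * h₁⁻¹), N.mul_mem hn₁ ((le_normalizer_iff.mp hH) h₁ hh₁ n₂ hn₂),
          h₁ * h₂, H.mul_mem hh₁ hh₂, by group⟩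
      one_mem' := ⟨1, N.one_mem, 1, H.one_mem, by simp⟩
      inv_mem' := by
        rintro _ ⟨n, hn, h, hh, rfl⟩
        refine ⟨h⁻¹ * n⁻¹ * h⁻¹⁻¹,
          (le_normalizer_iff.mp hH) h⁻¹ (H.inv_mem hh) n⁻¹ (N.inv_mem hn), h⁻¹, H.inv_mem hh,
          by group⟩ }
  have key : N ⊔ H ≤ S :=
    sup_le (fun n hn => ⟨n, hn, 1, H.one_mem, by simp⟩)
      (fun h hh => ⟨1, N.one_mem, h, hh, by simp⟩)
  exact key hx

/-- **T5, generic form.**  `a` of prime order normalizes `N` and the abelian subgroup `U`; `U`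
normalizes `N`; the orders of `N`, `U`, `a` are pairwise coprime (for `N`, `a` this is not needed);
`a` has no non-identity fixed point on `N`.  Then `⁅U, ⟨a⟩⁆` centralizes `N`. -/
theorem fpf_commutator_centralizes {G : Type*} [Group G] [Finite G] (N U : Subgroup G) (a : G)
    (hp : (orderOf a).Prime)
    (hUN : U ≤ normalizer (N : Set G)) (haN : a ∈ normalizer (N : Set G))
    (haU : a ∈ normalizer (U : Set G))
    (hab : ∀ x ∈ U, ∀ y ∈ U, x * y = y * x)
    (hcopa : (Nat.card U).Coprime (orderOf a))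
    (hcopN : (Nat.card N).Coprime (Nat.card U))
    (hfix : N ⊓ centralizer ({a} : Set G) = ⊥) :
    ⁅U, zpowers a⁆ ≤ centralizer (N : Set G) := by
  classical
  have hZU : zpowers a ≤ normalizer (U : Set G) := by rw [zpowers_le]; exact haU
  have hcomm : IsMulCommutative U := ⟨⟨fun x y => Subtype.ext (hab x x.2 y y.2)⟩⟩
  have hcardZ : Nat.card (zpowers a) = orderOf a := Nat.card_zpowers a
  have hcopZ : (Nat.card (zpowers a)).Coprime (Nat.card U) := by rw [hcardZ]; exact hcopa.symm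
  have h1 := Cfsg.Agent.Lib.Helper1.abelian_centralizer_inf_commutator (zpowers a) U hZU hcopZ
  have hU₁U : ⁅U, zpowers a⁆ ≤ U := by
    rw [commutator_le]
    intro u hu z hz
    have h2 := (le_normalizer_iff.mp hZU) z hz u⁻¹ (U.inv_mem hu)
    have h3 : ⁅u, z⁆ = u * (z * u⁻¹ * z⁻¹) := by rw [commutatorElement_def]; group
    rw [h3]; exact U.mul_mem hu h2
  -- `a` normalizes `U₁`
  have haU₁ : ∀ x ∈ ⁅U, zpowers a⁆, a * x * a⁻¹ ∈ ⁅U, zpowers a⁆ := by
    have h2 : ⁅U, zpowers a⁆ ≤ (⁅U, zpowers a⁆).comap (MulAut.conj a).toMonoidHom := by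
      rw [commutator_le]
      intro u hu z hz
      rw [mem_comap, map_commutatorElement]
      refine commutator_mem_commutator ?_ ?_
      · exact (mem_normalizer_iff.mp haU u).mp hu
      · exact (zpowers a).mul_mem ((zpowers a).mul_mem (mem_zpowers a) hz)
          ((zpowers a).inv_mem (mem_zpowers a))
    intro x hx
    exact h2 hx
  have hU₁N : ⁅U, zpowers a⁆ ≤ normalizer (N : Set G) := hU₁U.trans hUN
  have hNU : N ⊓ ⁅U, zpowers a⁆ = ⊥ := by
    have h2 : N ⊓ U = ⊥ := (Subgroup.disjoint_of_coprime_natCard hcopN).eq_bot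
    rw [eq_bot_iff, ← h2]
    exact inf_le_inf_left N hU₁U
  -- the group `L = N U₁` and the automorphism induced by `a`
  have hL : ∀ x ∈ N ⊔ ⁅U, zpowers a⁆, a * x * a⁻¹ ∈ N ⊔ ⁅U, zpowers a⁆ := by
    intro x hx
    obtain ⟨n, hn, u, hu, rfl⟩ := exists_mul_of_mem_sup_norm hU₁N hx
    have h2 : a * (n * u) * a⁻¹ = (a * n * a⁻¹) * (a * u * a⁻¹) := by group
    rw [h2]
    exact (N ⊔ ⁅U, zpowers a⁆).mul_mem
      (mem_sup_left ((mem_normalizer_iff.mp haN n).mp hn)) (mem_sup_right (haU₁ u hu))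
  let φ : ↥(N ⊔ ⁅U, zpowers a⁆) →* ↥(N ⊔ ⁅U, zpowers a⁆) :=
    { toFun := fun x => ⟨a * x.1 * a⁻¹, hL x.1 x.2⟩
      map_one' := by apply Subtype.ext; simp
      map_mul' := by intro x y; apply Subtype.ext; simp [mul_assoc] }
  have hφ : ∀ x : ↥(N ⊔ ⁅U, zpowers a⁆), ((φ x : ↥(N ⊔ ⁅U, zpowers a⁆)) : G) = a * x.1 * a⁻¹ :=
    fun x => rfl
  have hiter : ∀ (k : ℕ) (x : ↥(N ⊔ ⁅U, zpowers a⁆)),
      (((⇑φ)^[k] x : ↥(N ⊔ ⁅U, zpowers a⁆)) : G) = a ^ k * x.1 * (a ^ k)⁻¹ := by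
    intro k
    induction k with
    | zero => intro x; simp
    | succ k ih =>
      intro x
      rw [Function.iterate_succ_apply', hφ, ih, pow_succ']
      group
  have hφp : (⇑φ)^[orderOf a] = _root_.id := by
    funext x
    apply Subtype.ext
    rw [hiter, pow_orderOf_eq_one]
    simp
  have hfpf : MonoidHom.FixedPointFree φ := by
    intro x hx
    have hx' : a * x.1 * a⁻¹ = x.1 := by
      have := congrArg Subtype.val hx
      rwa [hφ] at this
    obtain ⟨n, hn, u, hu, hxnu⟩ := exists_mul_of_mem_sup_norm hU₁N x.2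
    rw [hxnu] at hx'
    have hw : n⁻¹ * (a * n * a⁻¹) = u * (a * u * a⁻¹)⁻¹ := by
      have h2 : a * (n * u) * a⁻¹ = (a * n * a⁻¹) * (a * u * a⁻¹) := by group
      rw [h2] at hx'
      calc n⁻¹ * (a * n * a⁻¹) = n⁻¹ * ((a * n * a⁻¹) * (a * u * a⁻¹)) * (a * u * a⁻¹)⁻¹ := by
            group
        _ = n⁻¹ * (n * u) * (a * u * a⁻¹)⁻¹ := by rw [hx']
        _ = u * (a * u * a⁻¹)⁻¹ := by group
    have hwN : n⁻¹ * (a * n * a⁻¹) ∈ N :=
      N.mul_mem (N.inv_mem hn) ((mem_normalizer_iff.mp haN n).mp hn)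
    have hwU : n⁻¹ * (a * n * a⁻¹) ∈ ⁅U, zpowers a⁆ := by
      rw [hw]
      exact (⁅U, zpowers a⁆).mul_mem hu ((⁅U, zpowers a⁆).inv_mem (haU₁ u hu))
    have hw1 : n⁻¹ * (a * n * a⁻¹) = 1 := by
      have : n⁻¹ * (a * n * a⁻¹) ∈ N ⊓ ⁅U, zpowers a⁆ := ⟨hwN, hwU⟩
      rw [hNU] at this
      exact mem_bot.mp this
    have hn_fix : a * n * a⁻¹ = n := by
      have := congrArg (fun t => n * t) hw1
      simpa using this
    have hu_fix : a * u * a⁻¹ = u := by
      rw [hw1] at hw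
      exact (mul_inv_eq_one.mp hw.symm).symm
    have hn1 : n = 1 := by
      have : n ∈ N ⊓ centralizer ({a} : Set G) := by
        refine Subgroup.mem_inf.mpr ⟨hn, ?_⟩
        rw [mem_centralizer_iff]
        intro h hh
        rw [Set.mem_singleton_iff] at hh
        subst hh
        calc h * n = h * n * h⁻¹ * h := by group
          _ = n * h := by rw [hn_fix]
      rw [hfix] at this
      exact mem_bot.mp this
    have hu1 : u = 1 := by
      have hcomm_au : Commute a u := by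
        show a * u = u * a
        calc a * u = a * u * a⁻¹ * a := by group
          _ = u * a := by rw [hu_fix]
      have : u ∈ (U ⊓ centralizer ((zpowers a : Subgroup G) : Set G)) ⊓ ⁅U, zpowers a⁆ := by
        refine Subgroup.mem_inf.mpr ⟨Subgroup.mem_inf.mpr ⟨hU₁U hu, ?_⟩, hu⟩
        rw [mem_centralizer_iff]
        intro z hz
        obtain ⟨k, rfl⟩ := mem_zpowers_iff.mp hz
        exact (hcomm_au.zpow_left k).eq
      rw [h1] at this
      exact mem_bot.mp this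
    apply Subtype.ext
    rw [hxnu, hn1, hu1]
    simp
  have hnil : Group.IsNilpotent ↥(N ⊔ ⁅U, zpowers a⁆) :=
    Cfsg.Agent.S0033.fpf_nilpotent_of_iterate φ hfpf hp hφp
  -- coprime orders commute in the nilpotent group `L`
  intro u hu
  rw [mem_centralizer_iff]
  intro n hn
  have hnL : n ∈ N ⊔ ⁅U, zpowers a⁆ := mem_sup_left hn
  have huL : u ∈ N ⊔ ⁅U, zpowers a⁆ := mem_sup_right hu
  have hord : (orderOf (⟨n, hnL⟩ : ↥(N ⊔ ⁅U, zpowers a⁆))).Coprime
      (orderOf (⟨u, huL⟩ : ↥(N ⊔ ⁅U, zpowers a⁆))) := by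
    have h2 : orderOf (⟨n, hnL⟩ : ↥(N ⊔ ⁅U, zpowers a⁆)) = orderOf n :=
      (Subgroup.orderOf_mk n hnL)
    have h3 : orderOf (⟨u, huL⟩ : ↥(N ⊔ ⁅U, zpowers a⁆)) = orderOf u :=
      (Subgroup.orderOf_mk u huL)
    rw [h2, h3]
    have h4 : orderOf n ∣ Nat.card N := Subgroup.orderOf_dvd_natCard N hn
    have h5 : orderOf u ∣ Nat.card U := Subgroup.orderOf_dvd_natCard U (hU₁U hu)
    exact Nat.Coprime.coprime_dvd_left h4 (Nat.Coprime.coprime_dvd_right h5 hcopN)
  have hc := Cfsg.Agent.Lib.Helper65.commute_of_coprime_of_nilpotent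
    ↥(N ⊔ ⁅U, zpowers a⁆) ⟨n, hnL⟩ ⟨u, huL⟩ hord
  exact congrArg Subtype.val hc

/-- `⁅U, ⟨a⟩⁆ ≤ U` when `a` normalizes `U`. -/
theorem commutator_zpowers_le {G : Type*} [Group G] (U : Subgroup G) (a : G)
    (haU : a ∈ normalizer (U : Set G)) : ⁅U, zpowers a⁆ ≤ U := by
  have hZU : zpowers a ≤ normalizer (U : Set G) := by rw [zpowers_le]; exact haU
  rw [commutator_le]
  intro u hu z hz
  have h2 := (le_normalizer_iff.mp hZU) z hz u⁻¹ (U.inv_mem hu)
  have h3 : ⁅u, z⁆ = u * (z * u⁻¹ * z⁻¹) := by rw [commutatorElement_def]; group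
  rw [h3]; exact U.mul_mem hu h2

/-- **T5 in the shape used by the B-G 11.7 core (helper15).**  `a ^ p = 1`, `a` normalizes `N` and
the abelian `U`, `U` normalizes `N`, `|U|` is prime to `p` and to `|N|`, and `a` fixes no
non-identity element of `N`.  Then `W = ⁅U, ⟨a⟩⁆` is a subgroup of `U` containing all commutators
`u a u⁻¹ a⁻¹`, on which `a` is fixed-point-free, and which centralizes `N`. -/
theorem t5_fpf {G : Type*} [Group G] [Finite G] (N U : Subgroup G) (a : G) {p : ℕ}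
    (hp : p.Prime) (hap : a ^ p = 1) (haN : a ∈ Subgroup.normalizer (N : Set G))
    (hUN : U ≤ Subgroup.normalizer (N : Set G)) (haU : a ∈ Subgroup.normalizer (U : Set G))
    (hUc : ∀ u ∈ U, ∀ v ∈ U, u * v = v * u) (hUp : (Nat.card U).Coprime p)
    (hUN' : (Nat.card U).Coprime (Nat.card N)) (hfpf : ∀ y ∈ N, a * y = y * a → y = 1) :
    ∃ W : Subgroup G, W ≤ U ∧ (∀ u ∈ U, u * a * u⁻¹ * a⁻¹ ∈ W) ∧
      (∀ w ∈ W, a * w = w * a → w = 1) ∧ W ≤ Subgroup.centralizer (N : Set G) := by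
  classical
  by_cases ha1 : a = 1
  · subst ha1
    have hN : N = ⊥ := by
      rw [eq_bot_iff]
      intro y hy
      exact mem_bot.mpr (hfpf y hy (by simp))
    refine ⟨⊥, bot_le, ?_, ?_, bot_le⟩
    · intro u _; simp
    · intro w hw _; exact mem_bot.mp hw
  · have hord : orderOf a = p := by
      have h1 : orderOf a ∣ p := orderOf_dvd_of_pow_eq_one hap
      rcases (Nat.dvd_prime hp).mp h1 with h2 | h2
      · exact absurd (orderOf_eq_one_iff.mp h2) ha1
      · exact h2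
    have hp' : (orderOf a).Prime := by rw [hord]; exact hp
    have hZU : zpowers a ≤ normalizer (U : Set G) := by rw [zpowers_le]; exact haU
    have hcomm : IsMulCommutative U := ⟨⟨fun x y => Subtype.ext (hUc x x.2 y y.2)⟩⟩
    have hcardZ : Nat.card (zpowers a) = orderOf a := Nat.card_zpowers a
    have hcopZ : (Nat.card (zpowers a)).Coprime (Nat.card U) := by
      rw [hcardZ, hord]; exact hUp.symm
    have h1 := Cfsg.Agent.Lib.Helper1.abelian_centralizer_inf_commutator (zpowers a) U hZU hcopZ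
    have hWU := commutator_zpowers_le U a haU
    refine ⟨⁅U, zpowers a⁆, hWU, ?_, ?_, ?_⟩
    · intro u hu
      have h2 : u * a * u⁻¹ * a⁻¹ = ⁅u, a⁆ := by rw [commutatorElement_def]
      rw [h2]
      exact commutator_mem_commutator hu (mem_zpowers a)
    · intro w hw hcw
      have hcomm_aw : Commute a w := hcw
      have : w ∈ (U ⊓ centralizer ((zpowers a : Subgroup G) : Set G)) ⊓ ⁅U, zpowers a⁆ := by
        refine Subgroup.mem_inf.mpr ⟨Subgroup.mem_inf.mpr ⟨hWU hw, ?_⟩, hw⟩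
        rw [mem_centralizer_iff]
        intro z hz
        obtain ⟨k, rfl⟩ := mem_zpowers_iff.mp hz
        exact (hcomm_aw.zpow_left k).eq
      rw [h1] at this
      exact mem_bot.mp this
    · refine fpf_commutator_centralizes N U a hp' hUN haN haU hUc (by rw [hord]; exact hUp)
        hUN'.symm ?_
      rw [eq_bot_iff]
      intro y hy
      have hy' := Subgroup.mem_inf.mp hy
      refine mem_bot.mpr (hfpf y hy'.1 ?_)
      exact (mem_centralizer_iff.mp hy'.2) a (Set.mem_singleton a)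

/-- **T5** (B-G Section 11): `a ∈ M` of prime order with `C_{M_σ}(a) = 1`, `U ≤ M` an abelian
`σ(M)'`-subgroup normalized by `a` and of order prime to that of `a`.  Then `⁅U, ⟨a⟩⁆` centralizes
`M_σ`. -/
theorem t5_fpf_centralizes {G : Type*} [Group G] [Finite G] (M : Subgroup G) (a : G)
    (ha : a ∈ M) (hp : (orderOf a).Prime)
    (hfix : Cfsg.sigmaCore M ⊓ centralizer ({a} : Set G) = ⊥)
    (U : Subgroup G) (hUM : U ≤ M) (hab : ∀ x ∈ U, ∀ y ∈ U, x * y = y * x)
    (hn : a ∈ normalizer (U : Set G)) (hcop : (Nat.card U).Coprime (orderOf a))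
    (hsig : ∀ q ∈ Cfsg.sigma M, ¬ q ∣ Nat.card U) :
    ⁅U, zpowers a⁆ ≤ centralizer (Cfsg.sigmaCore M : Set G) := by
  have hMn := Cfsg.Agent.Lib.Helper31.BG.le_normalizer_sigmaCore M
  have hcopN : (Nat.card (Cfsg.sigmaCore M)).Coprime (Nat.card U) := by
    refine Nat.Coprime.symm (Nat.coprime_of_dvd ?_)
    intro k hk hk1 hk2
    exact hsig k (Cfsg.Agent.Lib.Helper31.BG.sigmaCore_isPi M k hk hk2) hk1
  exact fpf_commutator_centralizes (Cfsg.sigmaCore M) U a hp (hUM.trans hMn) (hMn ha) hn hab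
    hcop hcopN hfix

/-- elementwise form of `t5_fpf_centralizes`. -/
theorem t5_fpf_centralizes_elt {G : Type*} [Group G] [Finite G] (M : Subgroup G) (a : G)
    (ha : a ∈ M) (hp : (orderOf a).Prime)
    (hfix : Cfsg.sigmaCore M ⊓ centralizer ({a} : Set G) = ⊥)
    (U : Subgroup G) (hUM : U ≤ M) (hab : ∀ x ∈ U, ∀ y ∈ U, x * y = y * x)
    (hn : a ∈ normalizer (U : Set G)) (hcop : (Nat.card U).Coprime (orderOf a))
    (hsig : ∀ q ∈ Cfsg.sigma M, ¬ q ∣ Nat.card U) :
    ∀ u ∈ U, ⁅u, a⁆ ∈ centralizer (Cfsg.sigmaCore M : Set G) := fun _ hu =>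
  t5_fpf_centralizes M a ha hp hfix U hUM hab hn hcop hsig
    (commutator_mem_commutator hu (mem_zpowers a))

end Cfsg.Agent.Lib.Helper98.BG
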