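-- Bender-Glauberman Section 11 tool T4 (normal q-subgroups of M for q outside sigma(M)):
-- auxiliary lemmas.
import Mathlib
import Cfsg.Prelude.Def_OddOrderLocal
import Cfsg.Agent.Lib.Helper15.BG.Signalizer
import Cfsg.Agent.Lib.Helper35.BG.Basic
import Cfsg.Agent.Lib.Helper24.PRank
import Cfsg.Agent.Lib.Helper75.BGUtil

set_option autoImplicit false

namespace Cfsg.Agent.Lib.Helper98.BG

open Subgroup Cfsg
open scoped commutatorElement

/-- a subgroup all of whose elements conjugate `H` into itself normalizes `H`. -/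
theorem le_normalizer_of_conj_mem {G : Type*} [Group G] {D H : Subgroup G}
    (h : ∀ d ∈ D, ∀ x ∈ H, d * x * d⁻¹ ∈ H) : D ≤ normalizer (H : Set G) := by
  intro d hd
  rw [mem_normalizer_iff]
  intro x
  constructor
  · exact h d hd x
  · intro hx
    have h2 := h d⁻¹ (D.inv_mem hd) _ hx
    have h3 : d⁻¹ * (d * x * d⁻¹) * d⁻¹⁻¹ = x := by group
    rwa [h3] at h2

theorem subgroupOf_normal_of_le_normalizer' {G : Type*} [Group G] (K A : Subgroup G)
    (h : K ≤ normalizer (A : Set G)) : (A.subgroupOf K).Normal := by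
  refine ⟨fun x hx g => ?_⟩
  rw [mem_subgroupOf] at hx ⊢
  have h1 := (le_normalizer_iff.mp h) g.1 g.2 x.1 hx
  simpa using h1

/-- **Fixed points.**  If `H` normalizes `W`, `q ∣ |W|`, and every element of `H` has a `q`-power
that centralizes `W`, then some non-identity element of `W` commutes with all of `H`. -/
theorem exists_fixed_of_pgroup_action {G : Type*} [Group G] [Finite G] (q : ℕ) [Fact q.Prime]
    (W H : Subgroup G) (hH : H ≤ normalizer (W : Set G)) (hq : q ∣ Nat.card W)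
    (hpow : ∀ h ∈ H, ∃ k : ℕ, h ^ q ^ k ∈ centralizer (W : Set G)) :
    ∃ w ∈ W, w ≠ 1 ∧ ∀ h ∈ H, h * w = w * h := by
  classical
  let θ : H →* MulAut W := (W.normalizerMonoidHom).comp (Subgroup.inclusion hH)
  have hθ : ∀ (h : H) (w : W), ((θ h w : W) : G) = (h : G) * w * (h : G)⁻¹ := fun h w => rfl
  have hP : IsPGroup q θ.range := by
    rintro ⟨t, ⟨h, rfl⟩⟩
    obtain ⟨k, hk⟩ := hpow h h.2
    refine ⟨k, ?_⟩
    apply Subtype.ext
    rw [Subgroup.coe_pow, Subgroup.coe_one, ← map_pow]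
    ext w
    rw [hθ]
    have h1 := (mem_centralizer_iff.mp hk) w w.2
    have h2 : ((h ^ q ^ k : H) : G) = (h : G) ^ q ^ k := by simp
    rw [h2]
    show (h : G) ^ q ^ k * w * ((h : G) ^ q ^ k)⁻¹ = w
    rw [← h1]
    group
  have hfix1 : (1 : W) ∈ MulAction.fixedPoints θ.range W := by
    intro t
    exact map_one t.1
  obtain ⟨b, hb, hb1⟩ := hP.exists_fixed_point_of_prime_dvd_card_of_fixed_point W hq hfix1
  refine ⟨b, b.2, ?_, ?_⟩
  · intro h
    exact hb1 (Subtype.ext h.symm)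
  · intro h hh
    have h1 : (θ ⟨h, hh⟩) b = b := hb ⟨θ ⟨h, hh⟩, ⟨_, rfl⟩⟩
    have h2 : h * b * h⁻¹ = b := by
      have := congrArg Subtype.val h1
      rwa [hθ] at this
    calc h * b = h * b * h⁻¹ * h := by group
      _ = b * h := by rw [h2]

/-- `Ω₁(Z(Y))` for a non-trivial `q`-subgroup `Y`: non-trivial, abelian of exponent `q`, and
normalized by `N(Y)`. -/
theorem exists_omega_center {G : Type*} [Group G] [Finite G] (q : ℕ) [Fact q.Prime]
    (Y : Subgroup G) (hY1 : Y ≠ ⊥) (hYq : IsPGroup q Y) :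
    ∃ W : Subgroup G, W ≤ Y ∧ W ≠ ⊥ ∧ (∀ a ∈ W, ∀ b ∈ W, a * b = b * a) ∧ (∀ a ∈ W, a ^ q = 1) ∧
      normalizer (Y : Set G) ≤ normalizer (W : Set G) := by
  classical
  let W : Subgroup G :=
    { carrier := {y | y ∈ Y ∧ (∀ z ∈ Y, z * y = y * z) ∧ y ^ q = 1}
      mul_mem' := by
        rintro a b ⟨ha, hac, haq⟩ ⟨hb, hbc, hbq⟩
        refine ⟨Y.mul_mem ha hb, ?_, ?_⟩
        · intro z hz
          rw [← mul_assoc, hac z hz, mul_assoc, hbc z hz, mul_assoc]
        · have hc : Commute a b := (hbc a ha)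
          rw [hc.mul_pow, haq, hbq, one_mul]
      one_mem' := ⟨Y.one_mem, by intro z _; simp, one_pow q⟩
      inv_mem' := by
        rintro a ⟨ha, hac, haq⟩
        refine ⟨Y.inv_mem ha, ?_, ?_⟩
        · intro z hz
          have := hac z hz
          calc z * a⁻¹ = a⁻¹ * (a * z) * a⁻¹ := by group
            _ = a⁻¹ * (z * a) * a⁻¹ := by rw [this]
            _ = a⁻¹ * z := by group
        · rw [inv_pow, haq, inv_one] }
  have hWmem : ∀ y, y ∈ W ↔ y ∈ Y ∧ (∀ z ∈ Y, z * y = y * z) ∧ y ^ q = 1 := fun y => Iff.rfl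
  refine ⟨W, fun y hy => hy.1, ?_, ?_, fun a ha => ha.2.2, ?_⟩
  · -- non-trivial
    have : Nontrivial Y := (Subgroup.nontrivial_iff_ne_bot Y).mpr hY1
    have := hYq.center_nontrivial
    have hZp : IsPGroup q (Subgroup.center Y) := hYq.to_subgroup _
    obtain ⟨n, hn0, hn⟩ := hZp.nontrivial_iff_card.mp inferInstance
    have hdvd : q ∣ Nat.card (Subgroup.center Y) := by
      rw [hn]; exact dvd_pow_self _ (ne_of_gt hn0)
    obtain ⟨z, hz⟩ := exists_prime_orderOf_dvd_card' q hdvd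
    intro hbot
    have hzW : ((z : Y) : G) ∈ W := by
      refine ⟨(z : Y).2, ?_, ?_⟩
      · intro y hy
        have h1 := (Subgroup.mem_center_iff.mp z.2) ⟨y, hy⟩
        exact congrArg Subtype.val h1
      · have h1 : z ^ q = 1 := by rw [← hz]; exact pow_orderOf_eq_one z
        have h2 := congrArg (fun t : Subgroup.center Y => ((t : Y) : G)) h1
        simpa using h2
    rw [hbot, Subgroup.mem_bot] at hzW
    have hz1 : z = 1 := by
      apply Subtype.ext
      apply Subtype.ext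
      simpa using hzW
    rw [hz1, orderOf_one] at hz
    exact (Fact.out : q.Prime).one_lt.ne hz
  · intro a ha b hb
    exact (hb.2.1 a ha.1)
  · apply le_normalizer_of_conj_mem
    intro g hg y hy
    have hgY : ∀ z ∈ Y, g * z * g⁻¹ ∈ Y := fun z hz => (mem_normalizer_iff.mp hg z).mp hz
    have hgY' : ∀ z ∈ Y, g⁻¹ * z * g ∈ Y := by
      intro z hz
      have := (mem_normalizer_iff.mp ((normalizer (Y : Set G)).inv_mem hg) z).mp hz
      simpa using this
    refine ⟨hgY y hy.1, ?_, ?_⟩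
    · intro z hz
      have h1 := hy.2.1 (g⁻¹ * z * g) (hgY' z hz)
      calc z * (g * y * g⁻¹) = g * ((g⁻¹ * z * g) * y) * g⁻¹ := by group
        _ = g * (y * (g⁻¹ * z * g)) * g⁻¹ := by rw [h1]
        _ = g * y * g⁻¹ * z := by group
    · rw [conj_pow, hy.2.2]
      group

/-- a non-trivial group of exponent `q` and order at most `q ^ 2` has order `q` or `q ^ 2`. -/
theorem card_eq_or_of_exp {G : Type*} [Group G] [Finite G] (q : ℕ) [Fact q.Prime]
    (W : Subgroup G) (hW1 : W ≠ ⊥) (hexp : ∀ a ∈ W, a ^ q = 1) (hle : Nat.card W ≤ q ^ 2) :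
    Nat.card W = q ∨ Nat.card W = q ^ 2 := by
  have hq : q.Prime := Fact.out
  have hP : IsPGroup q W := by
    intro a
    refine ⟨1, ?_⟩
    apply Subtype.ext
    rw [pow_one, Subgroup.coe_pow, Subgroup.coe_one]
    exact hexp a a.2
  obtain ⟨n, hn⟩ := IsPGroup.iff_card.mp hP
  have hn0 : n ≠ 0 := by
    rintro rfl
    rw [pow_zero] at hn
    exact hW1 ((Subgroup.card_eq_one).mp hn)
  have hn2 : n ≤ 2 := by
    by_contra hlt
    have h3 : 3 ≤ n := by omega
    have : q ^ 3 ≤ q ^ n := Nat.pow_le_pow_right hq.pos h3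
    have h4 : q ^ 2 < q ^ 3 := Nat.pow_lt_pow_right hq.one_lt (by norm_num)
    omega
  have : n = 1 ∨ n = 2 := by omega
  rcases this with rfl | rfl
  · left; rw [hn, pow_one]
  · right; exact hn

/-- rank two: an element of order dividing `q` centralizing an elementary abelian subgroup of
order `q ^ 2` lies in it. -/
theorem mem_of_rank_two {G : Type*} [Group G] [Finite G] (q : ℕ) (M : Subgroup G)
    (hr : PRankLE q 2 M) (A : Subgroup G) (hAM : A ≤ M) (hAe : IsElementaryAbelian q A)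
    (hA2 : Nat.card A = q ^ 2) (x : G) (hxM : x ∈ M)
    (hxC : x ∈ centralizer (A : Set G)) (hxq : x ^ q = 1) : x ∈ A := by
  have hB := Cfsg.Agent.Lib.Helper15.BG.ea_sup_zpowers_of_centralizes hAe x hxC hxq
  have hBM : A ⊔ zpowers x ≤ M := sup_le hAM (by rw [zpowers_le]; exact hxM)
  have hcard := (Cfsg.Agent.Lib.Helper24.pRankLE_subgroup_iff q 2 M).mp hr (A ⊔ zpowers x) hBM
    (fun a ha b hb => congrArg Subtype.val (hB.1.is_comm.comm ⟨a, ha⟩ ⟨b, hb⟩)) hB.2
  have heq : A = A ⊔ zpowers x :=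
    Subgroup.eq_of_le_of_card_ge le_sup_left (by rw [hA2]; exact hcard)
  rw [heq]
  exact mem_sup_right (mem_zpowers x)

/-- `N(X) = M` for a non-trivial subgroup `X` of the maximal subgroup `M` normalized by `M`. -/
theorem normalizer_eq_of_le {G : Type*} [Group G] (hG : IsMinSimpleOddOrder G) (M : Subgroup G)
    (hM : IsCoatom M) (X : Subgroup G) (hX1 : X ≠ ⊥) (hXM : X ≤ M)
    (hn : M ≤ normalizer (X : Set G)) : normalizer (X : Set G) = M := by
  have hXtop : X ≠ ⊤ := by
    rintro rfl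
    exact hM.1 (top_le_iff.mp hXM)
  have h1 := Cfsg.Agent.Lib.Helper35.BG.normalizer_ne_top hG hX1 hXtop
  by_contra hne
  exact h1 (hM.2 _ (lt_of_le_of_ne hn (Ne.symm hne)))

/-- **`q ∈ σ(M)` from a normal subgroup that is `Ω₁` of a Sylow `q`-subgroup of `M`.** -/
theorem mem_sigma_of_omega {G : Type*} [Group G] [Finite G] (hG : IsMinSimpleOddOrder G)
    (M : Subgroup G) (hM : IsCoatom M) (q : ℕ) [Fact q.Prime] (A : Subgroup G) (hAM : A ≤ M)
    (hA1 : A ≠ ⊥) (hn : M ≤ normalizer (A : Set G)) (hexp : ∀ a ∈ A, a ^ q = 1)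
    (P : Sylow q M) (hAP : A ≤ (P : Subgroup M).map M.subtype)
    (hΩ : ∀ x ∈ (P : Subgroup M).map M.subtype, x ^ q = 1 → x ∈ A) : q ∈ sigma M := by
  have hq : q.Prime := Fact.out
  have hNA := normalizer_eq_of_le hG M hM A hA1 hAM hn
  refine ⟨hq, ?_, P, ?_⟩
  · obtain ⟨a, ha1⟩ := (Subgroup.ne_bot_iff_exists_ne_one).mp hA1
    have ha' : (a : G) ≠ 1 := fun h => ha1 (Subtype.ext h)
    have h1 : orderOf (a : G) ∣ q := orderOf_dvd_of_pow_eq_one (hexp a a.2)
    have h2 : orderOf (a : G) = q := by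
      rcases (Nat.dvd_prime hq).mp h1 with h | h
      · exact absurd (orderOf_eq_one_iff.mp h) ha'
      · exact h
    rw [← h2]
    exact Subgroup.orderOf_dvd_natCard M (hAM a.2)
  · refine le_trans ?_ hNA.le
    apply le_normalizer_of_conj_mem
    intro g hg a ha
    have h1 : g * a * g⁻¹ ∈ (P : Subgroup M).map M.subtype :=
      (mem_normalizer_iff.mp hg a).mp (hAP ha)
    refine hΩ _ h1 ?_
    rw [conj_pow, hexp a ha]
    group

/-- a `q`-subgroup normalizing a subgroup of order `q` centralizes it. -/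
theorem le_centralizer_of_card_prime {G : Type*} [Group G] [Finite G] (q : ℕ) [Fact q.Prime]
    (W B : Subgroup G) (hW : Nat.card W = q) (hB : IsPGroup q B)
    (hBW : B ≤ normalizer (W : Set G)) : B ≤ centralizer (W : Set G) := by
  have hq : q.Prime := Fact.out
  obtain ⟨w, hw, hw1, hfix⟩ := exists_fixed_of_pgroup_action q W B hBW (by rw [hW]) (by
    intro h hh
    obtain ⟨k, hk⟩ := hB ⟨h, hh⟩
    refine ⟨k, ?_⟩
    have h2 : h ^ q ^ k = 1 := by
      have := congrArg Subtype.val hk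
      simpa using this
    rw [h2]
    exact one_mem _)
  -- `W` is generated by `w`
  have hWz : W = zpowers w := by
    symm
    apply Subgroup.eq_of_le_of_card_ge (by rw [zpowers_le]; exact hw)
    rw [hW, Nat.card_zpowers]
    have h1 : orderOf w ∣ q := by
      rw [← hW]
      exact Subgroup.orderOf_dvd_natCard W hw
    rcases (Nat.dvd_prime hq).mp h1 with h | h
    · exact absurd (orderOf_eq_one_iff.mp h) hw1
    · exact h.ge
  intro b hb
  rw [mem_centralizer_iff]
  intro x hx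
  rw [SetLike.mem_coe, hWz] at hx
  obtain ⟨k, rfl⟩ := mem_zpowers_iff.mp hx
  have hc : Commute b w := hfix b hb
  exact (hc.zpow_right k).eq.symm

end Cfsg.Agent.Lib.Helper98.BG
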