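-- Bender-Glauberman Section 11 tool T4: a non-trivial normal q-subgroup Y of a maximal subgroup M,
-- for a prime q outside sigma(M), is cyclic; its subgroup of order q is normal in M and lies in
-- every elementary abelian subgroup of order q^2 of M (so M is "exceptional" for q).
import Mathlib
import Cfsg.Prelude.Def_OddOrderLocal
import Cfsg.Statements.S1409
import Cfsg.Agent.Lib.Helper98.BG.T4Aux
import Cfsg.Agent.Lib.Helper98.BG.T5

set_option autoImplicit false

namespace Cfsg.Agent.Lib.Helper98.BG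

open Subgroup Cfsg
open scoped commutatorElement

theorem normal_pgroup_le_sylow {H : Type*} [Group H] {p : ℕ} {N : Subgroup H} (hN : N.Normal)
    (hp : IsPGroup p N) (P : Sylow p H) : N ≤ (P : Subgroup H) := by
  have h1 : IsPGroup p ((P : Subgroup H) ⊔ N : Subgroup H) :=
    P.isPGroup'.to_sup_of_normal_right hp
  have h2 := P.is_maximal' h1 le_sup_left
  calc N ≤ (P : Subgroup H) ⊔ N := le_sup_right
    _ = P := h2

/-- a `q`-subgroup of `M` normalized by `M` lies in every Sylow `q`-subgroup of `M`. -/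
theorem le_map_sylow_of_normal {G : Type*} [Group G] (M : Subgroup G) (q : ℕ)
    (Y : Subgroup G) (hYM : Y ≤ M) (hYq : IsPGroup q Y) (hYn : M ≤ normalizer (Y : Set G))
    (P : Sylow q M) : Y ≤ (P : Subgroup M).map M.subtype := by
  intro y hy
  have hn : (Y.subgroupOf M).Normal := subgroupOf_normal_of_le_normalizer' M Y hYn
  have hp : IsPGroup q (Y.subgroupOf M) := hYq.of_equiv (subgroupOfEquivOfLe hYM).symm
  have := normal_pgroup_le_sylow hn hp P
  exact ⟨⟨y, hYM hy⟩, this (mem_subgroupOf.mpr hy), rfl⟩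

theorem prime_dvd_card_of_isPGroup {G : Type*} [Group G] [Finite G] (q : ℕ) [Fact q.Prime]
    (Y : Subgroup G) (hY1 : Y ≠ ⊥) (hYq : IsPGroup q Y) : q ∣ Nat.card Y := by
  obtain ⟨n, hn⟩ := IsPGroup.iff_card.mp hYq
  have hn0 : n ≠ 0 := by
    rintro rfl
    rw [pow_zero] at hn
    exact hY1 ((Subgroup.card_eq_one).mp hn)
  rw [hn]
  exact dvd_pow_self q hn0

/-- **T4(a).**  A non-trivial `q`-subgroup `Y` normalized by the maximal subgroup `M`
(`q ∉ σ(M)`, `M` of `q`-rank at most two) contains a subgroup of order `q` normalized by `M`. -/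
theorem t4_exists_normal_prime {G : Type*} [Group G] [Finite G] (hG : IsMinSimpleOddOrder G)
    (M : Subgroup G) (hM : IsCoatom M) (q : ℕ) [Fact q.Prime] (hq : q ∉ sigma M)
    (hr : PRankLE q 2 M)
    (Y : Subgroup G) (hYM : Y ≤ M) (hY1 : Y ≠ ⊥) (hYq : IsPGroup q Y)
    (hYn : M ≤ normalizer (Y : Set G)) :
    ∃ W₀ : Subgroup G, W₀ ≤ Y ∧ Nat.card W₀ = q ∧ M ≤ normalizer (W₀ : Set G) := by
  classical
  have hqp : q.Prime := Fact.out
  have hq2 : q ≠ 2 := by
    rintro rfl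
    have h1 : 2 ∣ Nat.card G :=
      (prime_dvd_card_of_isPGroup 2 Y hY1 hYq).trans (Subgroup.card_subgroup_dvd_card Y)
    exact (Nat.not_even_iff_odd.mpr hG.1) (even_iff_two_dvd.mpr h1)
  obtain ⟨W, hWY, hW1, hWab, hWexp, hWn⟩ := exists_omega_center q Y hY1 hYq
  have hWM : W ≤ M := hWY.trans hYM
  have hMW : M ≤ normalizer (W : Set G) := hYn.trans hWn
  have hWcard_le : Nat.card W ≤ q ^ 2 :=
    (Cfsg.Agent.Lib.Helper24.pRankLE_subgroup_iff q 2 M).mp hr W hWM hWab hWexp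
  rcases card_eq_or_of_exp q W hW1 hWexp hWcard_le with hc | hc
  · exact ⟨W, hWY, hc, hMW⟩
  · have hNW := normalizer_eq_of_le hG M hM W hW1 hWM hMW
    have hWe : IsElementaryAbelian q W :=
      ⟨⟨⟨fun a b => Subtype.ext (hWab a a.2 b b.2)⟩⟩, hWexp⟩
    have hWp : IsPGroup q W := IsPGroup.of_card hc
    have hT1 : ∀ x ∈ ⁅M, M⁆, (orderOf x).Coprime q → x ∈ centralizer (W : Set G) := by
      intro x hx hxo
      have hsolv : Group.IsSolvable (normalizer (W : Set G)) :=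
        Cfsg.Agent.Lib.Helper35.BG.isSolvable_of_ne_top hG (by rw [hNW]; exact hM.1)
      have hodd : Odd (Nat.card (normalizer (W : Set G))) :=
        Cfsg.Agent.Lib.Helper35.BG.odd_card_subgroup hG _
      have hbot : IsElementaryAbelian q (⊥ : Subgroup G) :=
        ⟨⟨⟨fun a b => Subsingleton.elim _ _⟩⟩, fun a ha => by rw [mem_bot.mp ha, one_pow]⟩
      refine Cfsg.Agent.Lib.Helper15.BG.comm_normalizer_centralizes q hq2 W hWp hsolv hodd ⊥
        bot_le hbot ?_ x (by rw [hNW]; exact hx) hxo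
      intro B hBW _ _
      rw [← hc]
      exact Subgroup.card_le_of_le hBW
    have hpowM' : ∀ x ∈ ⁅M, M⁆, ∃ k : ℕ, x ^ q ^ k ∈ centralizer (W : Set G) := by
      intro x hx
      refine ⟨(orderOf x).factorization q, hT1 _ (pow_mem hx _) ?_⟩
      have hpos : 0 < orderOf x := orderOf_pos x
      have hdvd : q ^ (orderOf x).factorization q ∣ orderOf x := Nat.ordProj_dvd _ _
      rw [orderOf_pow_of_dvd (pow_ne_zero _ hqp.ne_zero) hdvd]
      exact (Nat.coprime_ordCompl hqp hpos.ne').symm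
    obtain ⟨P⟩ := (inferInstance : Nonempty (Sylow q M))
    have hQM : (P : Subgroup M).map M.subtype ≤ M := map_subtype_le _
    have hQp : IsPGroup q ((P : Subgroup M).map M.subtype) := P.isPGroup'.map M.subtype
    have hM'M : ⁅M, M⁆ ≤ M := Subgroup.commutator_le_self M
    have hDM : (P : Subgroup M).map M.subtype ⊔ ⁅M, M⁆ ≤ M := sup_le hQM hM'M
    have hMD : M ≤ normalizer (((P : Subgroup M).map M.subtype ⊔ ⁅M, M⁆ : Subgroup G) : Set G) := by
      apply le_normalizer_of_conj_mem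
      intro m hm d hd
      have h1 : m * d * m⁻¹ = ⁅m, d⁆ * d := by rw [commutatorElement_def]; group
      rw [h1]
      exact mul_mem (mem_sup_right (commutator_mem_commutator hm (hDM hd))) hd
    have hQn : (P : Subgroup M).map M.subtype ≤ normalizer ((⁅M, M⁆ : Subgroup G) : Set G) :=
      hQM.trans (Cfsg.Agent.Lib.Helper31.BG.le_normalizer_commutator_self M)
    have hpowD : ∀ d ∈ (P : Subgroup M).map M.subtype ⊔ ⁅M, M⁆,
        ∃ k : ℕ, d ^ q ^ k ∈ centralizer (W : Set G) := by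
      intro d hd
      rw [sup_comm] at hd
      obtain ⟨m', hm', x, hx, rfl⟩ := exists_mul_of_mem_sup_norm hQn hd
      obtain ⟨k, hk⟩ := hQp ⟨x, hx⟩
      have hxk : x ^ q ^ k = 1 := by
        have := congrArg Subtype.val hk
        simpa using this
      have key : ∀ n : ℕ, ∃ y ∈ ⁅M, M⁆, (m' * x) ^ n = y * x ^ n := by
        intro n
        induction n with
        | zero => exact ⟨1, one_mem _, by simp⟩
        | succ n ih =>
          obtain ⟨y, hy, hyn⟩ := ih
          refine ⟨y * (x ^ n * m' * (x ^ n)⁻¹), mul_mem hy ?_, ?_⟩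
          · exact (le_normalizer_iff.mp hQn) (x ^ n) (pow_mem hx n) m' hm'
          · rw [pow_succ, hyn, pow_succ]; group
      obtain ⟨y, hy, hyk⟩ := key (q ^ k)
      rw [hxk, mul_one] at hyk
      obtain ⟨k', hk'⟩ := hpowM' y hy
      refine ⟨k + k', ?_⟩
      rw [pow_add, pow_mul, hyk]
      exact hk'
    obtain ⟨w, hwW, hw1, hwfix⟩ := exists_fixed_of_pgroup_action q W
      ((P : Subgroup M).map M.subtype ⊔ ⁅M, M⁆) (hDM.trans hMW)
      (by rw [hc]; exact dvd_pow_self q two_ne_zero) hpowD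
    have hwW₀ : w ∈ W ⊓ centralizer
        (((P : Subgroup M).map M.subtype ⊔ ⁅M, M⁆ : Subgroup G) : Set G) :=
      mem_inf.mpr ⟨hwW, mem_centralizer_iff.mpr (fun d hd => hwfix d hd)⟩
    have hW₀1 : W ⊓ centralizer
        (((P : Subgroup M).map M.subtype ⊔ ⁅M, M⁆ : Subgroup G) : Set G) ≠ ⊥ := by
      intro h
      rw [h] at hwW₀
      exact hw1 (mem_bot.mp hwW₀)
    have hW₀n : M ≤ normalizer ((W ⊓ centralizer
        (((P : Subgroup M).map M.subtype ⊔ ⁅M, M⁆ : Subgroup G) : Set G) : Subgroup G) : Set G) := by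
      apply le_normalizer_of_conj_mem
      intro m hm x hx
      obtain ⟨hxW, hxC⟩ := mem_inf.mp hx
      refine mem_inf.mpr ⟨(mem_normalizer_iff.mp (hMW hm) x).mp hxW, ?_⟩
      rw [mem_centralizer_iff]
      intro d hd
      have hd' : m⁻¹ * d * m ∈ (P : Subgroup M).map M.subtype ⊔ ⁅M, M⁆ := by
        have := (mem_normalizer_iff.mp (hMD (M.inv_mem hm)) d).mp hd
        simpa using this
      have h1 := (mem_centralizer_iff.mp hxC) _ hd'
      calc d * (m * x * m⁻¹) = m * ((m⁻¹ * d * m) * x) * m⁻¹ := by group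
        _ = m * (x * (m⁻¹ * d * m)) * m⁻¹ := by rw [h1]
        _ = m * x * m⁻¹ * d := by group
    have hW₀ne : W ⊓ centralizer
        (((P : Subgroup M).map M.subtype ⊔ ⁅M, M⁆ : Subgroup G) : Set G) ≠ W := by
      intro heq
      have hWQ : ∀ x ∈ (P : Subgroup M).map M.subtype, x ∈ centralizer (W : Set G) := by
        intro x hx
        rw [mem_centralizer_iff]
        intro w' hw'
        have hw'' : w' ∈ W ⊓ centralizer
            (((P : Subgroup M).map M.subtype ⊔ ⁅M, M⁆ : Subgroup G) : Set G) := by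
          rw [heq]; exact hw'
        have h2 := (mem_centralizer_iff.mp (mem_inf.mp hw'').2) x (mem_sup_left hx)
        exact h2.symm
      have hWQ' : W ≤ (P : Subgroup M).map M.subtype := le_map_sylow_of_normal M q W hWM hWp hMW P
      have hΩ : ∀ x ∈ (P : Subgroup M).map M.subtype, x ^ q = 1 → x ∈ W := fun x hx hxq =>
        mem_of_rank_two q M hr W hWM hWe hc x (hQM hx) (hWQ x hx) hxq
      exact hq (mem_sigma_of_omega hG M hM q W hWM hW1 hMW hWexp P hWQ' hΩ)
    have hW₀W : W ⊓ centralizer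
        (((P : Subgroup M).map M.subtype ⊔ ⁅M, M⁆ : Subgroup G) : Set G) ≤ W := inf_le_left
    have hW₀exp : ∀ a ∈ W ⊓ centralizer
        (((P : Subgroup M).map M.subtype ⊔ ⁅M, M⁆ : Subgroup G) : Set G), a ^ q = 1 :=
      fun a ha => hWexp a (hW₀W ha)
    have hW₀le : Nat.card ↥(W ⊓ centralizer
        (((P : Subgroup M).map M.subtype ⊔ ⁅M, M⁆ : Subgroup G) : Set G)) ≤ q ^ 2 := by
      rw [← hc]; exact Subgroup.card_le_of_le hW₀W
    rcases card_eq_or_of_exp q _ hW₀1 hW₀exp hW₀le with h | h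
    · exact ⟨_, hW₀W.trans hWY, h, hW₀n⟩
    · exact absurd (Subgroup.eq_of_le_of_card_ge hW₀W (by rw [hc, h])) hW₀ne

/-- **T4** (B-G Section 11, in the shape used by the 11.7 core of helper15). -/
theorem t4 {G : Type*} [Group G] [Finite G] (hG : IsMinSimpleOddOrder G)
    (h1409 : type_of% (@Cfsg.CfsgFrozen.S1409 G _ _ hG)) (M : Subgroup G) (hM : IsCoatom M)
    (hα : ∀ q ∈ alpha M, q ∈ sigma M)
    (h115 : ∀ (q : ℕ) [Fact q.Prime] (B B₀ : Subgroup G), q ∉ sigma M → B ≤ M →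
      IsElementaryAbelian q B → Nat.card B = q ^ 2 → B₀ ≤ B → Nat.card B₀ = q →
      Subgroup.normalizer (B₀ : Set G) ≤ M → ∀ P : Sylow q M, IsMulCommutative (P : Subgroup M))
    (q : ℕ) [Fact q.Prime] (hq : q ∉ sigma M) (Y : Subgroup G) (hYM : Y ≤ M) (hY1 : Y ≠ ⊥)
    (hYq : IsPGroup q Y) (hYn : M ≤ Subgroup.normalizer (Y : Set G)) :
    IsCyclic Y ∧ ∃ W₀ : Subgroup G, W₀ ≤ Y ∧ Nat.card W₀ = q ∧
      M ≤ Subgroup.normalizer (W₀ : Set G) ∧
      (∀ B : Subgroup G, B ≤ M → IsElementaryAbelian q B → Nat.card B = q ^ 2 → W₀ ≤ B) ∧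
      (∃ B : Subgroup G, B ≤ M ∧ IsElementaryAbelian q B ∧ Nat.card B = q ^ 2) ∧
      (∀ P : Sylow q M, IsMulCommutative (P : Subgroup M)) ∧
      (∀ U : Subgroup G, U ≤ Y → U ≠ ⊥ → W₀ ≤ U) := by
  classical
  have hqp : q.Prime := Fact.out
  have hq2 : q ≠ 2 := by
    rintro rfl
    have h1 : 2 ∣ Nat.card G :=
      (prime_dvd_card_of_isPGroup 2 Y hY1 hYq).trans (Subgroup.card_subgroup_dvd_card Y)
    exact (Nat.not_even_iff_odd.mpr hG.1) (even_iff_two_dvd.mpr h1)
  have hr : PRankLE q 2 M := by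
    by_contra h
    exact hq (hα q ⟨hqp, h⟩)
  have hrank := (Cfsg.Agent.Lib.Helper24.pRankLE_subgroup_iff q 2 M).mp hr
  obtain ⟨W₀, hW₀Y, hW₀c, hW₀n⟩ := t4_exists_normal_prime hG M hM q hq hr Y hYM hY1 hYq hYn
  have hW₀M : W₀ ≤ M := hW₀Y.trans hYM
  have hW₀1 : W₀ ≠ ⊥ := by
    intro h
    rw [h, Subgroup.card_bot] at hW₀c
    exact hqp.one_lt.ne hW₀c
  have hNW₀ := normalizer_eq_of_le hG M hM W₀ hW₀1 hW₀M hW₀n
  have hW₀e : IsElementaryAbelian q W₀ := Cfsg.Agent.Lib.Helper15.BG.ea_of_card_eq_prime hW₀c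
  have h3 : ∀ B : Subgroup G, B ≤ M → IsElementaryAbelian q B → Nat.card B = q ^ 2 →
      W₀ ≤ B := by
    intro B hBM hBe hB2
    have hBp : IsPGroup q B := IsPGroup.of_card hB2
    have hBc : B ≤ centralizer (W₀ : Set G) :=
      le_centralizer_of_card_prime q W₀ B hW₀c hBp (hBM.trans hW₀n)
    intro w hw
    refine mem_of_rank_two q M hr B hBM hBe hB2 w (hW₀M hw) ?_ (hW₀e.2 w hw)
    rw [mem_centralizer_iff]
    intro b hb
    exact ((mem_centralizer_iff.mp (hBc hb)) w hw).symm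
  obtain ⟨-, -, A, hAe, hA2, hW₀A⟩ := h1409 M hM q hq W₀ hW₀c hNW₀.le
  have hAM : A ≤ M := by
    intro a ha
    rw [← hNW₀]
    apply Cfsg.Agent.Lib.Helper35.BG.centralizer_le_normalizer' W₀
    rw [mem_centralizer_iff]
    intro w hw
    exact congrArg Subtype.val (hAe.1.is_comm.comm ⟨w, hW₀A hw⟩ ⟨a, ha⟩)
  have h5 : ∀ P : Sylow q M, IsMulCommutative (P : Subgroup M) :=
    h115 q A W₀ hq hAM hAe hA2 hW₀A hW₀c hNW₀.le
  obtain ⟨P⟩ := (inferInstance : Nonempty (Sylow q M))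
  have hQab : ∀ x ∈ (P : Subgroup M).map M.subtype, ∀ y ∈ (P : Subgroup M).map M.subtype,
      x * y = y * x := by
    rintro _ ⟨x, hx, rfl⟩ _ ⟨y, hy, rfl⟩
    have := (h5 P).is_comm.comm ⟨x, hx⟩ ⟨y, hy⟩
    have h2 := congrArg (fun t : (P : Subgroup M) => ((t : M) : G)) this
    simpa using h2
  have hYQ : Y ≤ (P : Subgroup M).map M.subtype := le_map_sylow_of_normal M q Y hYM hYq hYn P
  have hQM : (P : Subgroup M).map M.subtype ≤ M := map_subtype_le _
  have hrY : ∀ A' : Subgroup G, A' ≤ Y → (∀ a ∈ A', ∀ b ∈ A', a * b = b * a) →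
      (∀ a ∈ A', a ^ q = 1) → Nat.card A' ≤ q ^ 1 := by
    intro A' hA'Y hA'ab hA'exp
    by_contra hgt
    rw [pow_one] at hgt
    have hA'M := hA'Y.trans hYM
    have hA'1 : A' ≠ ⊥ := by
      rintro rfl
      rw [Subgroup.card_bot] at hgt
      exact hgt hqp.one_lt.le
    have hle := hrank A' hA'M hA'ab hA'exp
    rcases card_eq_or_of_exp q A' hA'1 hA'exp hle with h | h
    · exact hgt h.le
    · have hA'e : IsElementaryAbelian q A' :=
        ⟨⟨⟨fun a b => Subtype.ext (hA'ab a a.2 b b.2)⟩⟩, hA'exp⟩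
      have hΩ : ∀ x ∈ (P : Subgroup M).map M.subtype, x ^ q = 1 → x ∈ A' := by
        intro x hx hxq
        refine mem_of_rank_two q M hr A' hA'M hA'e h x (hQM hx) ?_ hxq
        rw [mem_centralizer_iff]
        intro a ha
        exact hQab a (hYQ (hA'Y ha)) x hx
      have hn : M ≤ normalizer (A' : Set G) := by
        apply le_normalizer_of_conj_mem
        intro m hm a ha
        refine hΩ _ (hYQ ((mem_normalizer_iff.mp (hYn hm) a).mp (hA'Y ha))) ?_
        rw [conj_pow, hA'exp a ha]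
        group
      exact hq (mem_sigma_of_omega hG M hM q A' hA'M hA'1 hn hA'exp P (hA'Y.trans hYQ) hΩ)
  have hcyc : IsCyclic Y :=
    Cfsg.Agent.Lib.Helper75.BG.isCyclic_of_pRankLE_one q hq2 hYq
      ((Cfsg.Agent.Lib.Helper24.pRankLE_subgroup_iff q 1 Y).mpr hrY)
  refine ⟨hcyc, W₀, hW₀Y, hW₀c, hW₀n, h3, ⟨A, hAM, hAe, hA2⟩, h5, ?_⟩
  intro U hUY hU1
  have hUp : IsPGroup q U := hYq.to_le hUY
  obtain ⟨u', hu'⟩ := exists_prime_orderOf_dvd_card' q (prime_dvd_card_of_isPGroup q U hU1 hUp)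
  have hu1 : orderOf (u' : G) = q := by rw [Subgroup.orderOf_coe]; exact hu'
  have huY : (u' : G) ∈ Y := hUY u'.2
  have huC : (u' : G) ∈ centralizer (W₀ : Set G) := by
    rw [mem_centralizer_iff]
    intro w hw
    exact hQab w (hYQ (hW₀Y hw)) u' (hYQ huY)
  have huq : (u' : G) ^ q = 1 := by rw [← hu1]; exact pow_orderOf_eq_one _
  have hT := Cfsg.Agent.Lib.Helper15.BG.ea_sup_zpowers_of_centralizes hW₀e (u' : G) huC huq
  have hTY : W₀ ⊔ zpowers (u' : G) ≤ Y := sup_le hW₀Y (by rw [zpowers_le]; exact huY)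
  have hTc := hrY (W₀ ⊔ zpowers (u' : G)) hTY
    (fun a ha b hb => congrArg Subtype.val (hT.1.is_comm.comm ⟨a, ha⟩ ⟨b, hb⟩)) hT.2
  rw [pow_one] at hTc
  have h1 : W₀ = W₀ ⊔ zpowers (u' : G) :=
    Subgroup.eq_of_le_of_card_ge le_sup_left (by rw [hW₀c]; exact hTc)
  have h2 : zpowers (u' : G) = W₀ ⊔ zpowers (u' : G) :=
    Subgroup.eq_of_le_of_card_ge le_sup_right (by rw [Nat.card_zpowers, hu1]; exact hTc)
  rw [h1, ← h2, zpowers_le]
  exact u'.2

end Cfsg.Agent.Lib.Helper98.BG
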