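import Mathlib
import Cfsg.Agent.Lib.Helper98.BG.SigmaDefs
import Cfsg.Agent.Lib.Helper13.BG.S1427A
import Cfsg.Agent.Lib.Helper27.BG.SigmaBasic

/-!
# The sigma-partition (Bender–Glauberman Theorem 13.9) from the packages of `SigmaDefs`

Assembly (helper98).  Paper proof: notes 2109 and 2110 (topic `S1430`).
-/

set_option autoImplicit false
set_option linter.style.haveILetI false

namespace Cfsg.Agent.Lib.Helper98.BG13

open Cfsg Cfsg.Agent.Lib.Helper46 Cfsg.Agent.Lib.Helper35.BG Cfsg.Agent.Lib.Helper13.BG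

universe u

variable {G : Type u} [Group G]

theorem not_conj_symm {M H : Subgroup G}
    (hnc : ∀ g : G, H ≠ M.map (MulAut.conj g).toMonoidHom) :
    ∀ g : G, M ≠ H.map (MulAut.conj g).toMonoidHom := by
  intro g h
  apply hnc g⁻¹
  rw [h, Cfsg.Agent.Lib.Helper35.BG.map_conj_mul, inv_mul_cancel, Cfsg.Agent.Lib.Helper35.BG.map_conj_one]

theorem BadPair.symm {M H Q : Subgroup G} {q : ℕ} (hb : BadPair M H Q q) : BadPair H M Q q :=
  ⟨hb.hH, hb.hM, not_conj_symm hb.hnc, hb.hqH, hb.hqM, hb.hQ, hb.hNH, hb.hNM⟩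

/-- The conjugate of a subgroup of `C(P)` by an element of `C(P)` lies in `C(P)`. -/
theorem map_conj_le_centralizer {P X : Subgroup G} {c : G}
    (hc : c ∈ Subgroup.centralizer (P : Set G)) (hX : X ≤ Subgroup.centralizer (P : Set G)) :
    X.map (MulAut.conj c).toMonoidHom ≤ Subgroup.centralizer (P : Set G) := by
  rintro _ ⟨x, hx, rfl⟩
  have h1 := hX hx
  simp only [MulEquiv.coe_toMonoidHom, MulAut.conj_apply]
  exact Subgroup.mul_mem _ (Subgroup.mul_mem _ hc h1) (Subgroup.inv_mem _ hc)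

section
variable [Finite G]

/-- Reduction to a normalized bad pair. -/
theorem exists_badPair {M N : Subgroup G} (hM : IsCoatom M) (hN : IsCoatom N)
    (hnc : ∀ g : G, N ≠ M.map (MulAut.conj g).toMonoidHom) {q : ℕ} (hqM : q ∈ sigma M)
    (hqN : q ∈ sigma N) : ∃ H Q : Subgroup G, BadPair M H Q q := by
  haveI : Fact q.Prime := ⟨hqM.1⟩
  obtain ⟨Q₁, hQ₁⟩ := exists_sylIn q M
  obtain ⟨Q₂, hQ₂⟩ := exists_sylIn q N
  have hQ₁top := isSylowIn_top_of_sigma hqM hQ₁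
  have hQ₂top := isSylowIn_top_of_sigma hqN hQ₂
  obtain ⟨g, -, hg⟩ := hQ₂top.exists_conj hQ₁top
  refine ⟨N.map (MulAut.conj g).toMonoidHom, Q₁, coatom_map_conj13 hM 1 |> fun _ => hM,
    coatom_map_conj13 hN g, ?_, hqM, ?_, hQ₁top, normalizer_le_of_sigma hqM hQ₁, ?_⟩
  · intro g' h
    apply hnc (g⁻¹ * g')
    have h2 : (N.map (MulAut.conj g).toMonoidHom).map (MulAut.conj g⁻¹).toMonoidHom =
        (M.map (MulAut.conj g').toMonoidHom).map (MulAut.conj g⁻¹).toMonoidHom := by rw [h]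
    rw [Cfsg.Agent.Lib.Helper35.BG.map_conj_mul, Cfsg.Agent.Lib.Helper35.BG.map_conj_mul,
      inv_mul_cancel, Cfsg.Agent.Lib.Helper35.BG.map_conj_one] at h2
    exact h2
  · rw [Cfsg.Agent.Lib.Helper27.BG.sigma_map_conj]; exact hqN
  · rw [hg, normalizer_map_conj]
    exact Subgroup.map_mono (normalizer_le_of_sigma hqN hQ₂)

/-- A bad pair is impossible, given the packages. -/
theorem badPair_false (hLC1 : LemC1.{u}) (hLC2 : LemC2.{u}) (hLC3 : LemC3.{u})
    (hLD : LemD.{u}) (hLE : LemE.{u}) (hLF : LemF.{u})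
    (hG : Cfsg.IsMinSimpleOddOrder G) (hy : Hy hG)
    {M H Q : Subgroup G} {q : ℕ} (hb : BadPair M H Q q) : False := by
  have hb' := hb.symm
  haveI : Fact q.Prime := ⟨hb.hqM.1⟩
  -- `Q ≠ 1`
  have hQ1 : Q ≠ ⊥ := by
    apply sylIn_ne_bot hb.hQ
    rw [Subgroup.card_top]
    exact hb.hqM.2.1.trans (Subgroup.card_subgroup_dvd_card M)
  -- a complement `E ≤ N_G(Q)`
  have h2M : (2 : ℕ) ∉ sigma M := by
    intro h
    have hodd := odd_card_subgroup hG M
    exact (Nat.not_even_iff_odd.mpr hodd) (even_iff_two_dvd.mpr h.2.1)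
  obtain ⟨E, -, hEN, hE⟩ := (hLC1 hG hy M H Q q hb).1 2 ⊥ Nat.prime_two h2M IsPGroup.of_bot bot_le
  -- the subgroup `P`
  obtain ⟨⟨p, hpM, hpE⟩, hC2b⟩ := hLC2 hG hy M H Q q hb E hEN hE
  have hpp : p.Prime := hpM.1
  haveI : Fact p.Prime := ⟨hpp⟩
  obtain ⟨x, hx⟩ := exists_prime_orderOf_dvd_card' (G := ↥E) p hpE
  obtain ⟨P, hPdef⟩ : ∃ P : Subgroup G, P = Subgroup.zpowers (x : G) := ⟨_, rfl⟩
  have hPE : P ≤ E := by
    rw [hPdef, Subgroup.zpowers_le]; exact x.2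
  have hPcard : Nat.card P = p := by
    rw [hPdef, Nat.card_zpowers, Subgroup.orderOf_coe, hx]
  have hQP : Q ⊓ Subgroup.centralizer (P : Set G) = ⊥ := hC2b p P hpM hPE hPcard
  have hPN : P ≤ Subgroup.normalizer (Q : Set G) := hPE.trans hEN
  have hPQ : ¬ P ≤ Subgroup.centralizer (Q : Set G) := by
    intro h
    apply hQ1
    rw [← hQP]
    exact (le_inf le_rfl (Subgroup.le_centralizer_iff.mp h)).antisymm inf_le_left
  have hpH : p ∈ tau1 H := hLC3 hG hy H M Q q hb' p P hpp hPcard hPN hPQ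
  have hPp : IsPGroup p P := IsPGroup.of_card (n := 1) (by rw [hPcard, pow_one])
  obtain ⟨E', hPE', hE'N, hE'⟩ := (hLC1 hG hy H M Q q hb').1 p P hpp hpH.2.1 hPp hPN
  -- the subgroups `X`, `X'`
  obtain ⟨⟨r, X, hr, hXcard, hX⟩, hfinM⟩ := hLD hG hy M H Q q hb p P hpp hpM.2.1 hPcard hPN hQP
  obtain ⟨⟨r', X', hr', hX'card, hX'⟩, hfinH⟩ :=
    hLD hG hy H M Q q hb' p P hpp hpH.2.1 hPcard hPN hQP
  have hXM : X ≤ M := (hX.trans inf_le_left).trans (Cfsg.Agent.Lib.Helper67.BG.sigmaCore_le M)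
  have hX'H : X' ≤ H := (hX'.trans inf_le_left).trans (Cfsg.Agent.Lib.Helper67.BG.sigmaCore_le H)
  have hXP : X ≤ Subgroup.centralizer (P : Set G) := hX.trans inf_le_right
  have hX'P : X' ≤ Subgroup.centralizer (P : Set G) := hX'.trans inf_le_right
  obtain ⟨c, hc, hcase⟩ := hLE hG hy M H hb.hM hb.hH hb.hnc p P hpM hpH hPcard r X hr hXM hXcard
    hXP r' X' hr' hX'H hX'card hX'P
  rcases hcase with h1 | h1
  · exact hfinM (hLF hG hy M H Q q hb E hEN hE p P hpM hPE hPcard r' _ hr'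
      (by rw [card_map_conj]; exact hX'card) h1 (map_conj_le_centralizer hc hX'P))
  · exact hfinH (hLF hG hy H M Q q hb' E' hE'N hE' p P hpH hPE' hPcard r _ hr
      (by rw [card_map_conj]; exact hXcard) h1 (map_conj_le_centralizer hc hXP))

/-- **Sigma-partition (B&G 13.9)** from the packages: maximal subgroups with a common prime in
their `σ`-sets are conjugate. -/
theorem sigma_partition_of_pkgs (hLC1 : LemC1.{u}) (hLC2 : LemC2.{u}) (hLC3 : LemC3.{u})
    (hLD : LemD.{u}) (hLE : LemE.{u}) (hLF : LemF.{u})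
    (hG : Cfsg.IsMinSimpleOddOrder G) (hy : Hy hG) :
    ∀ M N : Subgroup G, IsCoatom M → IsCoatom N → (Cfsg.sigma M ∩ Cfsg.sigma N).Nonempty →
      ∃ g : G, N = M.map (MulAut.conj g).toMonoidHom := by
  intro M N hM hN ⟨q, hqM, hqN⟩
  by_contra hcon
  obtain ⟨H, Q, hb⟩ := exists_badPair hM hN (fun g h => hcon ⟨g, h⟩) hqM hqN
  exact badPair_false hLC1 hLC2 hLC3 hLD hLE hLF hG hy hb

end

end Cfsg.Agent.Lib.Helper98.BG13
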