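import Mathlib
import Cfsg.Agent.Lib.Helper98.BG.SigmaAsm
import Cfsg.Agent.Lib.Helper29.BG.LemK
import Cfsg.Agent.Lib.Helper76.BG.S1420Core

/-!
# Sigma-partition project, package A (helper98): basic structure of a bad pair
-/

set_option autoImplicit false
set_option linter.style.haveILetI false
set_option linter.unusedSectionVars false

namespace Cfsg.Agent.Lib.Helper98.BG13

open Cfsg Cfsg.Agent.Lib.Helper46 Cfsg.Agent.Lib.Helper35.BG Cfsg.Agent.Lib.Helper13.BG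

universe u

theorem piCore_mono13 {X : Type u} [Group X] {π₁ π₂ : Set ℕ} (h : π₁ ⊆ π₂) :
    piCore π₁ X ≤ piCore π₂ X :=
  sSup_le_sSup (fun _ hN => ⟨hN.1, fun p hp hd => h (hN.2 p hp hd)⟩)

theorem betaCore_le_alphaCore {G : Type u} [Group G] (M : Subgroup G) :
    piCoreOf (beta M) M ≤ alphaCore M :=
  Subgroup.map_mono (piCore_mono13 (fun _ hp => hp.1))

section
variable {G : Type u} [Group G] [Finite G]

theorem BadPair.le_left {M H Q : Subgroup G} {q : ℕ} (hb : BadPair M H Q q) : Q ≤ M :=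
  Subgroup.le_normalizer.trans hb.hNM

theorem BadPair.ne {M H Q : Subgroup G} {q : ℕ} (hb : BadPair M H Q q) : H ≠ M := by
  intro h
  apply hb.hnc 1
  rw [Cfsg.Agent.Lib.Helper35.BG.map_conj_one]
  exact h

theorem BadPair.sylM {M H Q : Subgroup G} {q : ℕ} (hb : BadPair M H Q q) : IsSylowIn q Q M := by
  haveI : Fact q.Prime := ⟨hb.hqM.1⟩
  exact sylIn_mono hb.hQ hb.le_left le_top

theorem BadPair.pgroup {M H Q : Subgroup G} {q : ℕ} (hb : BadPair M H Q q) : IsPGroup q Q := by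
  haveI : Fact q.Prime := ⟨hb.hqM.1⟩
  exact sylIn_isPGroup hb.hQ

/-- `Q` is abelian. -/
theorem BadPair.comm (hG : Cfsg.IsMinSimpleOddOrder G) (hy : Hy hG) {M H Q : Subgroup G} {q : ℕ}
    (hb : BadPair M H Q q) : ∀ x ∈ Q, ∀ y ∈ Q, x * y = y * x := by
  haveI : Fact q.Prime := ⟨hb.hqM.1⟩
  by_contra hcon
  have hna : ¬ IsMulCommutative Q := fun h => hcon (isMulCommutative_subgroup_iff.mp h)
  obtain ⟨L, -, hLu⟩ := hy.h1422 q Q hb.pgroup hna
  have e1 := hLu M ⟨hb.hM, hb.le_left⟩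
  have e2 := hLu H ⟨hb.hH, hb.symm.le_left⟩
  exact hb.ne (e2.trans e1.symm)

/-- `Q ≤ M_σ`. -/
theorem BadPair.le_sigmaCore (hG : Cfsg.IsMinSimpleOddOrder G) (hy : Hy hG) {M H Q : Subgroup G}
    {q : ℕ} (hb : BadPair M H Q q) : Q ≤ sigmaCore M := by
  haveI : Fact q.Prime := ⟨hb.hqM.1⟩
  obtain ⟨S, hS⟩ := hb.sylM.exists_sylow
  rw [← hS]
  exact Subgroup.map_mono
    (Cfsg.Agent.Lib.Helper66.BG.sylow_le_piCore_sigma hG hy.h1404 hy.h1405 M hb.hM q hb.hqM S)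

/-- `Q ≤ M'`. -/
theorem BadPair.le_commutator (hG : Cfsg.IsMinSimpleOddOrder G) (hy : Hy hG)
    {M H Q : Subgroup G} {q : ℕ} (hb : BadPair M H Q q) : Q ≤ ⁅M, M⁆ :=
  (hb.le_sigmaCore hG hy).trans
    (Cfsg.Agent.Lib.Helper66.BG.sigmaCore_le_commutator hG hy.h1404 M hb.hM)

/-- `q ∉ α(M)`. -/
theorem BadPair.not_alpha (hG : Cfsg.IsMinSimpleOddOrder G) (hy : Hy hG) {M H Q : Subgroup G}
    {q : ℕ} (hb : BadPair M H Q q) : q ∉ alpha M := fun h =>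
  alpha_sigma_disjoint hG hy.h1403 hb.hH hb.hM (not_conj_symm hb.hnc) h hb.hqH

/-- `M_σ` is not nilpotent. -/
theorem BadPair.not_nilpotent (hG : Cfsg.IsMinSimpleOddOrder G) (hy : Hy hG)
    {M H Q : Subgroup G} {q : ℕ} (hb : BadPair M H Q q) :
    ¬ Group.IsNilpotent ↥(sigmaCore M) := fun h =>
  sigma_disjoint_of_nilpotent hG hy.h1404 hy.h1405 hb.hH hb.hM (not_conj_symm hb.hnc) h
    hb.hqM hb.hqH

/-- `M_β ≠ 1`. -/
theorem BadPair.betaCore_ne_bot (hG : Cfsg.IsMinSimpleOddOrder G) (hy : Hy hG)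
    {M H Q : Subgroup G} {q : ℕ} (hb : BadPair M H Q q) : piCoreOf (beta M) M ≠ ⊥ := by
  intro hbot
  obtain ⟨hHallM, -, -, ⟨H1, hH1, hnil1⟩, -⟩ := hy.h1414 M hb.hM
  have h1 : H1.relIndex (sigmaCore M) = 1 := by
    by_contra hne
    obtain ⟨t, ht, htd⟩ := Nat.exists_prime_and_dvd hne
    have htβ : t ∈ beta M := by
      by_contra htβ
      exact hH1.2.2 t ht ⟨ht, htβ⟩ htd
    apply hHallM.2.2 t ht htβ
    rw [hbot, Subgroup.relIndex_bot_left]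
    exact (htd.trans (Subgroup.relIndex_dvd_card _ _)).trans
      (Subgroup.card_dvd_of_le (Cfsg.Agent.Lib.Helper67.BG.sigmaCore_le M))
  have h2 : sigmaCore M = H1 := le_antisymm (Subgroup.relIndex_eq_one.mp h1) hH1.1
  exact hb.not_nilpotent hG hy (h2 ▸ hnil1)

/-- Every element of `M` is `b * n` with `b ∈ M_β` and `n ∈ N_G(Q)`. -/
theorem BadPair.forall_mul (hG : Cfsg.IsMinSimpleOddOrder G) (hy : Hy hG)
    {M H Q : Subgroup G} {q : ℕ} (hb : BadPair M H Q q) :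
    ∀ m ∈ M, ∃ b ∈ ⁅M, M⁆ ⊓ piCoreOf (beta M) M, ∃ n ∈ Subgroup.normalizer (Q : Set G),
      m = b * n := by
  haveI : Fact q.Prime := ⟨hb.hqM.1⟩
  have hqp : q.Prime := hb.hqM.1
  have hqβ : q ∉ beta M := fun h => hb.not_alpha hG hy h.1
  obtain ⟨hHallM, -, ⟨H0, hH0, hnil⟩, -, -⟩ := hy.h1414 M hb.hM
  have hDM : ⁅M, M⁆ ≤ M := Cfsg.Agent.Lib.Helper29.BG.commutator_self_le M
  have hMD : M ≤ Subgroup.normalizer ((⁅M, M⁆ : Subgroup G) : Set G) :=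
    Cfsg.Agent.Lib.Helper29.BG.le_normalizer_commutator_self M
  have hMMb : M ≤ Subgroup.normalizer ((piCoreOf (beta M) M : Subgroup G) : Set G) :=
    Cfsg.Agent.Lib.Helper27.BG.le_normalizer_piCoreOf (beta M) M
  have hMB : M ≤ Subgroup.normalizer ((⁅M, M⁆ ⊓ piCoreOf (beta M) M : Subgroup G) : Set G) :=
    fun m hm => Cfsg.Agent.Lib.Helper29.BG.mem_normalizer_inf_K (hMD hm) (hMMb hm)
  have hsup : ⁅M, M⁆ ≤ (⁅M, M⁆ ⊓ piCoreOf (beta M) M) ⊔ H0 := by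
    rw [← Subgroup.relIndex_eq_one]
    by_contra hne
    obtain ⟨t, ht, htd⟩ := Nat.exists_prime_and_dvd hne
    have h1 : t ∣ (⁅M, M⁆ ⊓ piCoreOf (beta M) M).relIndex ⁅M, M⁆ :=
      htd.trans (Subgroup.relIndex_dvd_of_le_left _ le_sup_left)
    have h2 : t ∣ H0.relIndex ⁅M, M⁆ :=
      htd.trans (Subgroup.relIndex_dvd_of_le_left _ le_sup_right)
    have htβ : t ∈ beta M := by
      by_contra htβ
      exact hH0.2.2 t ht ⟨ht, htβ⟩ h2
    apply hHallM.2.2 t ht htβ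
    rw [Subgroup.inf_relIndex_left] at h1
    have : ((piCoreOf (beta M) M).subgroupOf M).Normal :=
      Subgroup.normal_subgroupOf_of_le_normalizer hMMb
    have h3 : ((piCoreOf (beta M) M).subgroupOf M).relIndex
        ((⁅M, M⁆ : Subgroup G).subgroupOf M) ∣
        ((piCoreOf (beta M) M).subgroupOf M).index := Subgroup.relIndex_dvd_index_of_normal _ _
    rw [Subgroup.relIndex_subgroupOf hDM] at h3
    exact h1.trans h3
  have ht' : ¬ q ∣ H0.relIndex ⁅M, M⁆ := hH0.2.2 q hqp ⟨hqp, hqβ⟩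
  have hS : IsSylowIn q Q ⁅M, M⁆ := sylIn_mono hb.hQ (hb.le_commutator hG hy) le_top
  obtain ⟨-, h2⟩ := Cfsg.Agent.Lib.Helper29.BG.lemK_pure hDM inf_le_left hMB hH0.1 hnil hsup ht'
    hMD hS
  intro m hm
  obtain ⟨b, hb', s, hs, h⟩ := h2 m hm
  refine ⟨b, hb', s * ((b * s)⁻¹ * m), Subgroup.mul_mem _ (Subgroup.le_normalizer hs) h, ?_⟩
  group

theorem lemA : LemA.{u} := by
  intro G _ _ hG hy M H Q q hb
  refine ⟨hb.comm hG hy, hb.le_sigmaCore hG hy, hb.not_alpha hG hy, ?_, hb.not_nilpotent hG hy,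
    ?_, hb.betaCore_ne_bot hG hy⟩
  · apply le_antisymm
    · intro m hm
      obtain ⟨b, hb', n, hn, rfl⟩ := hb.forall_mul hG hy m hm
      exact Subgroup.mul_mem_sup (betaCore_le_alphaCore M hb'.2) hn
    · refine sup_le ?_ hb.hNM
      exact (Subgroup.map_subtype_le _)
  · intro p hp
    haveI : Fact p.Prime := ⟨hp.1⟩
    obtain ⟨A, hAM, hA, hAc⟩ :=
      Cfsg.Agent.Lib.Helper76.BG.exists_ea_sq_of_not_rank_one M p hp.2.2.2
    exact hb.not_nilpotent hG hy (hy.h1417 M hb.hM p hp A ⟨hAM, hA, hAc⟩).1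

end

end Cfsg.Agent.Lib.Helper98.BG13
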