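import Mathlib
import Cfsg.Agent.Lib.Helper52.BG.S1380Defs
import Cfsg.Agent.Lib.Helper29.BG.LemK
import Cfsg.Agent.Lib.Helper13.BG.S1427B
import Cfsg.Agent.Lib.Helper35.BG.Hall
import Cfsg.Agent.Lib.Helper23.Transitivity2

/-!
# S1380 project (helper52), package B (helper98): transfer and a cyclic normal subgroup

`M = H ⋊ E` with `H` an `r'`-group, `X ⊴ E` cyclic, the `r`-subgroups of `E` abelian, every
cyclic normal subgroup of `M` inside `M'`, every `r`-element of `M'` centralizing `H`.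
If `y ∈ X` has order `r ^ (k+1)` and `y ^ (r ^ k)` centralizes `H`, then `y` centralizes `H`.
-/

set_option autoImplicit false
set_option linter.style.haveILetI false
set_option linter.unusedSectionVars false

namespace Cfsg.Agent.Lib.Helper98.BG80

open Cfsg
open scoped commutatorElement

universe u

/-- Conjugation by an element normalizing a cyclic subgroup is a power map on it. -/
theorem conj_eq_zpow_of_isCyclic {G : Type*} [Group G] {X : Subgroup G} (hX : IsCyclic ↥X) {u : G}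
    (hu : u ∈ Subgroup.normalizer (X : Set G)) : ∃ b : ℤ, ∀ x ∈ X, u * x * u⁻¹ = x ^ b := by
  obtain ⟨g, hg⟩ := hX.exists_generator
  have h1 : u * (g : G) * u⁻¹ ∈ X := (Subgroup.mem_normalizer_iff.mp hu _).mp g.2
  obtain ⟨b, hb⟩ := Subgroup.mem_zpowers_iff.mp (hg ⟨_, h1⟩)
  have hb' : (g : G) ^ b = u * (g : G) * u⁻¹ := by
    have := congrArg Subtype.val hb
    simpa using this
  refine ⟨b, fun x hx => ?_⟩
  obtain ⟨a, ha⟩ := Subgroup.mem_zpowers_iff.mp (hg ⟨x, hx⟩)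
  have ha' : (g : G) ^ a = x := by
    have := congrArg Subtype.val ha
    simpa using this
  rw [← ha']
  have : u * (g : G) ^ a * u⁻¹ = (u * (g : G) * u⁻¹) ^ a := by
    rw [conj_zpow]
  rw [this, ← hb', ← zpow_mul, ← zpow_mul, mul_comm]

/-- A central element of prime order `r` of a finite group with abelian Sylow `r`-subgroups does
not lie in the derived subgroup (transfer). -/
theorem not_mem_commutator_of_central {E : Type*} [Group E] [Finite E] {r : ℕ} [Fact r.Prime]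
    (hab : ∀ R : Sylow r E, ∀ a ∈ (R : Subgroup E), ∀ b ∈ (R : Subgroup E), a * b = b * a)
    {z : E} (hz : z ∈ Subgroup.center E) (hzr : orderOf z = r) : z ∉ commutator E := by
  intro hzc
  have hzp : IsPGroup r (Subgroup.zpowers z) := by
    apply IsPGroup.of_card (n := 1)
    rw [Nat.card_zpowers, hzr, pow_one]
  obtain ⟨R, hR⟩ := hzp.exists_le_sylow
  letI : CommGroup ↥(R : Subgroup E) :=
    { (inferInstance : Group ↥(R : Subgroup E)) with
      mul_comm := fun a b => Subtype.ext (hab R a a.2 b b.2) }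
  have key : ∀ (k : ℕ) (g₀ : E), g₀⁻¹ * z ^ k * g₀ ∈ (R : Subgroup E) →
      g₀⁻¹ * z ^ k * g₀ = z ^ k := by
    intro k g₀ _
    have h1 : z ^ k ∈ Subgroup.center E := Subgroup.pow_mem _ hz k
    rw [Subgroup.mem_center_iff] at h1
    rw [mul_assoc, ← h1 g₀]
    group
  have h1 := MonoidHom.transfer_eq_pow (MonoidHom.id ↥(R : Subgroup E)) z key
  have h2 : MonoidHom.transfer (MonoidHom.id ↥(R : Subgroup E)) z = 1 :=
    MonoidHom.mem_ker.mp (Abelianization.commutator_subset_ker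
      (MonoidHom.transfer (MonoidHom.id ↥(R : Subgroup E))) hzc)
  rw [h2] at h1
  have h3 : z ^ (R : Subgroup E).index = 1 := by
    have := congrArg Subtype.val h1
    simpa using this.symm
  have h4 : orderOf z ∣ (R : Subgroup E).index := orderOf_dvd_of_pow_eq_one h3
  rw [hzr] at h4
  exact R.not_dvd_index h4

/-- **Package B** of the S1380 project. -/
theorem lemB : Cfsg.Agent.Lib.Helper52.BG80.LemB.{u} := by
  intro G _ _ M H E X r hr hE hMH hHr hXE hEX hXc hab hcyc hder y hyX k hyk hy1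
  haveI : Fact r.Prime := ⟨hr⟩
  obtain ⟨hEM, hHM, hEH, hprod⟩ := hE
  obtain ⟨y1, hy1def⟩ : ∃ y1 : G, y1 = y ^ r ^ k := ⟨_, rfl⟩
  rw [← hy1def] at hy1
  have hy1o : orderOf y1 = r := by
    rw [hy1def, orderOf_pow' y (pow_ne_zero k hr.ne_zero), hyk,
      Nat.gcd_eq_right (pow_dvd_pow r (Nat.le_succ k)), pow_succ,
      Nat.mul_div_cancel_left _ (pow_pos hr.pos k)]
  have hconj : ∀ u ∈ E, ∃ b : ℤ, ∀ x ∈ X, u * x * u⁻¹ = x ^ b := fun u hu =>
    conj_eq_zpow_of_isCyclic hXc (hEX hu)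
  have hyE : y ∈ E := hXE hyX
  have hy1X : y1 ∈ X := by rw [hy1def]; exact Subgroup.pow_mem _ hyX _
  have hy1E : y1 ∈ E := hXE hy1X
  -- `⟨y1⟩` is a cyclic normal subgroup of `M`
  have hC : Subgroup.zpowers y1 ≤ ⁅M, M⁆ := by
    apply hcyc
    · rw [Subgroup.zpowers_le]; exact hEM hy1E
    · apply Cfsg.Agent.Lib.Helper23.le_normalizer_of_conj_mem'
      intro m hm v hv
      obtain ⟨a, ha, b, hb, rfl⟩ := hprod m hm
      obtain ⟨j, hj⟩ := hconj a ha
      obtain ⟨i, rfl⟩ := Subgroup.mem_zpowers_iff.mp hv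
      have hb1 : b * y1 = y1 * b := Subgroup.mem_centralizer_iff.mp hy1 b hb
      have hbi : b * y1 ^ i = y1 ^ i * b := Commute.zpow_right hb1 i
      have e : a * b * y1 ^ i * (a * b)⁻¹ = (a * y1 * a⁻¹) ^ i := by
        rw [conj_zpow]
        calc a * b * y1 ^ i * (a * b)⁻¹ = a * (b * y1 ^ i) * b⁻¹ * a⁻¹ := by group
          _ = a * (y1 ^ i * b) * b⁻¹ * a⁻¹ := by rw [hbi]
          _ = a * y1 ^ i * a⁻¹ := by group
      rw [e, hj y1 hy1X, ← zpow_mul]
      exact Subgroup.zpow_mem_zpowers y1 _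
    · infer_instance
  have hy1M' : y1 ∈ ⁅M, M⁆ := hC (Subgroup.mem_zpowers y1)
  have hM' : ⁅M, M⁆ ≤ H ⊔ ⁅E, E⁆ := by
    apply Cfsg.Agent.Lib.Helper29.BG.commutator_le_sup_of_forall_mul hMH hEM
    intro m hm
    obtain ⟨a, ha, b, hb, rfl⟩ := hprod m hm
    refine ⟨a * b * a⁻¹, ?_, a, ha, by group⟩
    exact (Subgroup.mem_normalizer_iff.mp (hMH (hEM ha)) b).mp hb
  have hEE : ⁅E, E⁆ ≤ E := Cfsg.Agent.Lib.Helper29.BG.commutator_self_le E
  have hy1E' : y1 ∈ ⁅E, E⁆ := by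
    have h1 := hM' hy1M'
    have hnorm : ⁅E, E⁆ ≤ Subgroup.normalizer (H : Set G) := hEE.trans (hEM.trans hMH)
    rw [← SetLike.mem_coe, Subgroup.coe_mul_of_right_le_normalizer_left H ⁅E, E⁆ hnorm] at h1
    obtain ⟨h, hh, c, hc, hhc⟩ := Set.mem_mul.mp h1
    have hh1 : h ∈ E ⊓ H := by
      refine ⟨?_, hh⟩
      have : h = y1 * c⁻¹ := by rw [← hhc]; group
      rw [this]
      exact E.mul_mem hy1E (E.inv_mem (hEE hc))
    rw [hEH, Subgroup.mem_bot] at hh1
    rw [← hhc, hh1, one_mul]; exact hc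
  -- some element of `E` does not centralize `y1` (transfer)
  have hex : ∃ u ∈ E, u * y1 * u⁻¹ ≠ y1 := by
    by_contra hcon0
    have hcon : ∀ u ∈ E, u * y1 * u⁻¹ = y1 := fun u hu => by
      by_contra h
      exact hcon0 ⟨u, hu, h⟩
    have hz : (⟨y1, hy1E⟩ : ↥E) ∈ Subgroup.center ↥E := by
      rw [Subgroup.mem_center_iff]
      intro g
      apply Subtype.ext
      have h := hcon g g.2
      simp only [Subgroup.coe_mul]
      calc (g : G) * y1 = ((g : G) * y1 * (g : G)⁻¹) * g := by group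
        _ = y1 * g := by rw [h]
    have hzo : orderOf (⟨y1, hy1E⟩ : ↥E) = r := by
      rw [← Subgroup.orderOf_coe]; exact hy1o
    have hzc : (⟨y1, hy1E⟩ : ↥E) ∈ commutator ↥E := by
      have h := hy1E'
      rw [← Cfsg.Agent.Lib.Helper13.BG.map_commutator_subtype] at h
      obtain ⟨c, hc, hce⟩ := h
      have : c = ⟨y1, hy1E⟩ := Subtype.ext hce
      rw [← this]; exact hc
    refine not_mem_commutator_of_central ?_ hz hzo hzc
    intro R a ha b hb
    have hRab := hab ((R : Subgroup ↥E).map E.subtype) (Subgroup.map_subtype_le _)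
      (IsPGroup.map R.2 _)
    apply Subtype.ext
    have h1 := Cfsg.Agent.Lib.Helper35.BG.isMulCommutative_subgroup_iff.mp hRab (a : G)
      ⟨a, ha, rfl⟩ (b : G) ⟨b, hb, rfl⟩
    simpa using h1
  obtain ⟨u, hu, hune⟩ := hex
  obtain ⟨b, hb⟩ := hconj u hu
  have hrb : ¬ (r : ℤ) ∣ (b - 1) := by
    intro hdvd
    apply hune
    rw [hb y1 hy1X]
    have h1 : y1 ^ (b - 1) = 1 := by
      rw [← orderOf_dvd_iff_zpow_eq_one, hy1o]; exact hdvd
    calc y1 ^ b = y1 ^ (b - 1) * y1 := by rw [← zpow_add_one]; congr 1; ring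
      _ = y1 := by rw [h1, one_mul]
  have hw : u * y * u⁻¹ * y⁻¹ = y ^ (b - 1) := by
    rw [hb y hyX, zpow_sub_one]
  have hwM : y ^ (b - 1) ∈ ⁅M, M⁆ := by
    rw [← hw]
    have h1 : ⁅u, y⁆ ∈ ⁅E, E⁆ := Subgroup.commutator_mem_commutator hu hyE
    rw [commutatorElement_def] at h1
    exact Subgroup.commutator_mono hEM hEM h1
  have hwC : y ^ (b - 1) ∈ Subgroup.centralizer (H : Set G) := by
    apply hder _ hwM
    refine ⟨k + 1, ?_⟩
    rw [← zpow_natCast, ← zpow_mul, mul_comm, zpow_mul, zpow_natCast, ← hyk, pow_orderOf_eq_one,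
      one_zpow]
  have hcop : IsCoprime (b - 1) ((r : ℤ) ^ (k + 1)) := by
    apply IsCoprime.pow_right
    exact ((Nat.prime_iff_prime_int.mp hr).coprime_iff_not_dvd.mpr hrb).symm
  obtain ⟨c, d, hcd⟩ := hcop
  have hyr : y ^ ((r : ℤ) ^ (k + 1)) = 1 := by
    rw [← orderOf_dvd_iff_zpow_eq_one, hyk]; push_cast; exact dvd_rfl
  have hfin : y = (y ^ (b - 1)) ^ c := by
    calc y = y ^ (1 : ℤ) := (zpow_one y).symm
      _ = y ^ (c * (b - 1) + d * (r : ℤ) ^ (k + 1)) := by rw [hcd]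
      _ = (y ^ (b - 1)) ^ c * (y ^ ((r : ℤ) ^ (k + 1))) ^ d := by
          rw [zpow_add, mul_comm c, zpow_mul, mul_comm d, zpow_mul]
      _ = (y ^ (b - 1)) ^ c := by rw [hyr, one_zpow, mul_one]
  rw [hfin]
  exact Subgroup.zpow_mem _ hwC c

end Cfsg.Agent.Lib.Helper98.BG80
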