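import Mathlib
import Cfsg.Agent.Lib.Helper98.BG.SigmaA
import Cfsg.Agent.Lib.Helper13.BG.S1427B
import Cfsg.Agent.Lib.Helper3.BG95LemmaZ

/-!
# Sigma-partition project, package B (helper98): subgroups centralizing `Q`

`M_σ ∩ H ≤ C(Q)` (indeed `M' ∩ H ≤ C(Q)`) and `N_G(Q) ∩ M' ≤ C(Q)`.
-/

set_option autoImplicit false
set_option linter.style.haveILetI false
set_option linter.unusedSectionVars false

namespace Cfsg.Agent.Lib.Helper98.BG13

open Cfsg Cfsg.Agent.Lib.Helper46 Cfsg.Agent.Lib.Helper35.BG Cfsg.Agent.Lib.Helper13.BG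

universe u

variable {G : Type u} [Group G] [Finite G]

/-- Two elements of `M'` of coprime orders commute modulo `M_α`. -/
theorem comm_mem_alphaCore (hG : Cfsg.IsMinSimpleOddOrder G) (hy : Hy hG) {M : Subgroup G}
    (hM : IsCoatom M) {c x : G} (hc : c ∈ ⁅M, M⁆) (hx : x ∈ ⁅M, M⁆)
    (hcop : (orderOf c).Coprime (orderOf x)) : c * x * c⁻¹ * x⁻¹ ∈ alphaCore M := by
  obtain ⟨-, -, -, -, hnil⟩ := hy.h1405 M hM
  rw [← map_commutator_subtype] at hc hx
  obtain ⟨c', hc', rfl⟩ := hc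
  obtain ⟨x', hx', rfl⟩ := hx
  have hcop' : (orderOf c').Coprime (orderOf x') := by
    rw [← Subgroup.orderOf_coe, ← Subgroup.orderOf_coe]; exact hcop
  have h := comm_mod_of_nilpotent_image (piCore (alpha M) ↥M) hnil hc' hx' hcop'
  exact ⟨_, h, by simp⟩

/-- An element lying in `M_α` and in a `q`-group, `q ∉ α(M)`, is trivial. -/
theorem eq_one_of_mem_alphaCore_of_pgroup {M Q : Subgroup G} {q : ℕ} (hq : q.Prime)
    (hQ : IsPGroup q Q) (hqα : q ∉ alpha M) {g : G} (hgα : g ∈ alphaCore M) (hgQ : g ∈ Q) :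
    g = 1 := by
  by_contra hg1
  have hoz : orderOf g ≠ 1 := fun h => hg1 (orderOf_eq_one_iff.mp h)
  obtain ⟨r, hr, hrg⟩ := Nat.exists_prime_and_dvd hoz
  haveI : Fact q.Prime := ⟨hq⟩
  have h1 : r = q := Cfsg.Agent.Lib.Helper67.BG.prime_eq_of_dvd_card_isPGroup hQ hr
    (hrg.trans (Subgroup.orderOf_dvd_natCard _ hgQ))
  have h2 : r ∈ alpha M := by
    obtain ⟨g', hg', rfl⟩ := hgα
    refine Cfsg.Agent.S3743.piCore_isPi (G := ↥M) (alpha M) r hr ?_
    rw [Subgroup.subtype_apply, Subgroup.orderOf_coe] at hrg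
    exact hrg.trans (Subgroup.orderOf_dvd_natCard _ hg')
  exact hqα (h1 ▸ h2)

/-- A `q`-subgroup of `N_G(Q)` lies in `Q` (`Q` a Sylow `q`-subgroup of `G`). -/
theorem le_of_pgroup_le_normalizer {Q X : Subgroup G} {q : ℕ} [Fact q.Prime]
    (hQ : IsSylowIn q Q ⊤) (hX : IsPGroup q X) (hXN : X ≤ Subgroup.normalizer (Q : Set G)) :
    X ≤ Q := by
  have hQN : IsSylowIn q Q (Subgroup.normalizer (Q : Set G)) :=
    sylIn_mono hQ Subgroup.le_normalizer le_top
  obtain ⟨R, hR, hXR⟩ := exists_isSylowIn_ge hX hXN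
  obtain ⟨g, hg, rfl⟩ := hQN.exists_conj hR
  rwa [map_conj_eq_of_mem_normalizer hg] at hXR

theorem BadPair.normalizer_inf_commutator_le (hG : Cfsg.IsMinSimpleOddOrder G) (hy : Hy hG)
    {M H Q : Subgroup G} {q : ℕ} (hb : BadPair M H Q q) :
    Subgroup.normalizer (Q : Set G) ⊓ ⁅M, M⁆ ≤ Subgroup.centralizer (Q : Set G) := by
  haveI : Fact q.Prime := ⟨hb.hqM.1⟩
  intro d hd
  rw [Subgroup.mem_centralizer_iff]
  intro x hx
  obtain ⟨a, b, ha, hb', hdab, hap, hbq⟩ :=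
    Cfsg.Agent.Lib.Helper3.BG95.exists_pPart_mul q d (isOfFinOrder_of_finite d)
  have hzN : Subgroup.zpowers d ≤ Subgroup.normalizer (Q : Set G) := by
    rw [Subgroup.zpowers_le]; exact hd.1
  have hzC : Subgroup.zpowers d ≤ ⁅M, M⁆ := by
    rw [Subgroup.zpowers_le]; exact hd.2
  -- the `q`-part lies in `Q`
  have haQ : a ∈ Q := by
    have h1 : Subgroup.zpowers a ≤ Subgroup.normalizer (Q : Set G) := by
      rw [Subgroup.zpowers_le]; exact hzN ha
    exact le_of_pgroup_le_normalizer hb.hQ hap h1 (Subgroup.mem_zpowers a)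
  have hax : a * x = x * a := hb.comm hG hy a haQ x hx
  -- the `q'`-part centralizes `Q`
  have hbx : b * x = x * b := by
    have hxo : orderOf x ∣ Nat.card Q := Subgroup.orderOf_dvd_natCard _ hx
    obtain ⟨k, hk⟩ := IsPGroup.iff_card.mp hb.pgroup
    have hcop : (orderOf b).Coprime (orderOf x) := by
      rw [hk] at hxo
      exact Nat.Coprime.coprime_dvd_right hxo (Nat.Coprime.pow_right k hbq)
    have h1 := comm_mem_alphaCore hG hy hb.hM (hzC hb') (hb.le_commutator hG hy hx) hcop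
    have h2 : b * x * b⁻¹ * x⁻¹ ∈ Q := by
      have h3 := (Subgroup.mem_normalizer_iff.mp (hzN hb') x).mp hx
      exact Q.mul_mem h3 (Q.inv_mem hx)
    have h4 := eq_one_of_mem_alphaCore_of_pgroup hb.hqM.1 hb.pgroup (hb.not_alpha hG hy) h1 h2
    have : b * x = (b * x * b⁻¹ * x⁻¹) * (x * b) := by group
    rw [this, h4, one_mul]
  rw [hdab]
  calc x * (a * b) = (x * a) * b := by group
    _ = (a * x) * b := by rw [hax]
    _ = a * (x * b) := by group
    _ = a * (b * x) := by rw [hbx]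
    _ = a * b * x := by group

theorem BadPair.commutator_inf_le (hG : Cfsg.IsMinSimpleOddOrder G) (hy : Hy hG)
    {M H Q : Subgroup G} {q : ℕ} (hb : BadPair M H Q q) :
    ⁅M, M⁆ ⊓ H ≤ Subgroup.centralizer (Q : Set G) := by
  haveI : Fact q.Prime := ⟨hb.hqM.1⟩
  intro c hc
  rw [Subgroup.mem_centralizer_iff]
  intro x hx
  have hcM : c ∈ M := Cfsg.Agent.Lib.Helper29.BG.commutator_self_le M hc.1
  have hxM : x ∈ M := hb.le_left hx
  obtain ⟨b₀, hb₀, n, hn, hcbn⟩ := hb.forall_mul hG hy c hcM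
  have hnC : n ∈ ⁅M, M⁆ := by
    have : n = b₀⁻¹ * c := by rw [hcbn]; group
    rw [this]
    exact Subgroup.mul_mem _ (Subgroup.inv_mem _ hb₀.1) hc.1
  have hnx : x * n = n * x := by
    have h := hb.normalizer_inf_commutator_le hG hy ⟨hn, hnC⟩
    exact (Subgroup.mem_centralizer_iff.mp h x hx)
  -- `[c, x] = [b₀, x] ∈ M_β`
  have h1 : c * x * c⁻¹ * x⁻¹ = b₀ * (x * b₀⁻¹ * x⁻¹) := by
    rw [hcbn]
    have : b₀ * n * x * (b₀ * n)⁻¹ * x⁻¹ = b₀ * (n * x) * n⁻¹ * b₀⁻¹ * x⁻¹ := by group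
    rw [this, ← hnx]; group
  have h2 : c * x * c⁻¹ * x⁻¹ ∈ alphaCore M := by
    rw [h1]
    apply betaCore_le_alphaCore M
    refine Subgroup.mul_mem _ hb₀.2 ?_
    have hnorm := Cfsg.Agent.Lib.Helper27.BG.le_normalizer_piCoreOf (beta M) M hxM
    exact (Subgroup.mem_normalizer_iff.mp hnorm b₀⁻¹).mp (Subgroup.inv_mem _ hb₀.2)
  -- `[c, x] ∈ H_σ`
  have hxσ : x ∈ sigmaCore H := hb.symm.le_sigmaCore hG hy hx
  have h3 : c * x * c⁻¹ * x⁻¹ ∈ sigmaCore H :=
    (sigmaCore H).mul_mem (conj_mem_sigmaCore hc.2 hxσ) ((sigmaCore H).inv_mem hxσ)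
  -- `M_α ∩ H_σ = 1`
  have h4 : c * x * c⁻¹ * x⁻¹ = 1 := by
    by_contra hne
    have hoz : orderOf (c * x * c⁻¹ * x⁻¹) ≠ 1 := fun h => hne (orderOf_eq_one_iff.mp h)
    obtain ⟨r, hr, hrz⟩ := Nat.exists_prime_and_dvd hoz
    have hrσ : r ∈ sigma H := mem_sigma_of_dvd_orderOf hr h3 hrz
    have hrα : r ∈ alpha M := by
      obtain ⟨g', hg', hg'e⟩ := h2
      refine Cfsg.Agent.S3743.piCore_isPi (G := ↥M) (alpha M) r hr ?_
      rw [← hg'e, Subgroup.subtype_apply, Subgroup.orderOf_coe] at hrz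
      exact hrz.trans (Subgroup.orderOf_dvd_natCard _ hg')
    exact alpha_sigma_disjoint hG hy.h1403 hb.hH hb.hM (not_conj_symm hb.hnc) hrα hrσ
  have : c * x = (c * x * c⁻¹ * x⁻¹) * (x * c) := by group
  rw [this, h4, one_mul]

theorem lemB : LemB.{u} := by
  intro G _ _ hG hy M H Q q hb
  refine ⟨?_, hb.normalizer_inf_commutator_le hG hy⟩
  exact (inf_le_inf_right H
    (Cfsg.Agent.Lib.Helper66.BG.sigmaCore_le_commutator hG hy.h1404 M hb.hM)).trans
    (hb.commutator_inf_le hG hy)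

end Cfsg.Agent.Lib.Helper98.BG13
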