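import Mathlib
import Cfsg.Agent.Lib.Helper98.BG.SigmaAsm

/-!
# Sigma-partition project, package E (helper98): the maximal subgroup over `N_G(P)`

`lemE : LemE1 → LemE2 → LemE3 → LemE`.  Paper proof: note 2110 (topic `S1430`), steps (8)–(10).
-/

set_option autoImplicit false
set_option linter.style.haveILetI false

namespace Cfsg.Agent.Lib.Helper98.BG13

open Cfsg Cfsg.Agent.Lib.Helper46 Cfsg.Agent.Lib.Helper35.BG Cfsg.Agent.Lib.Helper13.BG

universe u

theorem isPGroup_of_card_eq_prime {G : Type u} [Group G] {X : Subgroup G} {r : ℕ}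
    (hX : Nat.card X = r) : IsPGroup r X :=
  IsPGroup.of_card (n := 1) (by rw [hX, pow_one])

theorem ne_bot_of_card_eq_prime {G : Type u} [Group G] {X : Subgroup G} {r : ℕ} (hr : r.Prime)
    (hX : Nat.card X = r) : X ≠ ⊥ := by
  intro h
  rw [h, Subgroup.card_bot] at hX
  exact hr.one_lt.ne hX

theorem lemE (hE1 : LemE1.{u}) (hE2 : LemE2.{u}) (hE3 : LemE3.{u}) : LemE.{u} := by
  intro G _ _ hG hy M H hM hH hnc p P hpM hpH hP r X hr hXM hX hXP r' X' hr' hX'H hX' hX'P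
  have hpp : p.Prime := hpM.1
  haveI : Fact p.Prime := ⟨hpp⟩
  have hrp : r.Prime := hr.1.1
  have hr'p : r'.Prime := hr'.1.1
  haveI : Fact r.Prime := ⟨hrp⟩
  haveI : Fact r'.Prime := ⟨hr'p⟩
  have hP1 : P ≠ ⊥ := ne_bot_of_card_eq_prime hpp hP
  have hPtop : P ≠ ⊤ := by
    intro h
    have h1 : Nat.card G = p := by rw [← hP, h, Subgroup.card_top]
    have h2 : Nat.card M ∣ p := h1 ▸ Subgroup.card_subgroup_dvd_card M
    have h3 : p ∣ Nat.card M := hpM.2.2.1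
    have h4 : Nat.card M = p := Nat.dvd_antisymm h2 h3
    exact hM.1 (Subgroup.eq_top_of_card_eq M (h4.trans h1.symm))
  obtain ⟨L, hL, hNL⟩ := exists_coatom_ge (normalizer_ne_top hG hP1 hPtop)
  -- `L` is not conjugate to a maximal subgroup in which `p ∈ τ₁`
  have key : ∀ (M₀ : Subgroup G), IsCoatom M₀ → p ∈ tau1 M₀ →
      ∀ g : G, M₀ ≠ L.map (MulAut.conj g).toMonoidHom := by
    intro M₀ hM₀ hp₀ g h
    have hN : Subgroup.normalizer ((P.map (MulAut.conj g).toMonoidHom : Subgroup G) : Set G)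
        ≤ M₀ := by
      rw [normalizer_map_conj, h]; exact Subgroup.map_mono hNL
    have h9 := (hy.h1409 M₀ hM₀ p hp₀.2.1 (P.map (MulAut.conj g).toMonoidHom)
      (by rw [card_map_conj]; exact hP) hN).1.2
    exact h9 hp₀.2.2.2.2
  have hncM := key M hM hpM
  have hncH := key H hH hpH
  have hLM : L ≠ M := fun h => hncM 1 (by
    rw [Cfsg.Agent.Lib.Helper35.BG.map_conj_one]; exact h.symm)
  have hLH : L ≠ H := fun h => hncH 1 (by
    rw [Cfsg.Agent.Lib.Helper35.BG.map_conj_one]; exact h.symm)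
  have hrL : r ∉ sigma L := fun h => alpha_sigma_disjoint hG hy.h1403 hL hM hncM hr.1 h
  have hr'L : r' ∉ sigma L := fun h => alpha_sigma_disjoint hG hy.h1403 hL hH hncH hr'.1 h
  have hCL : Subgroup.centralizer (P : Set G) ≤ L :=
    (Subgroup.centralizer_le_normalizer (P : Set G)).trans hNL
  have hXL : X ≤ L := hXP.trans hCL
  have hX'L : X' ≤ L := hX'P.trans hCL
  -- uniqueness for `X`, `X'` (S1423) and `N(X) ≤ M` (S1404)
  have hrσM : r ∈ sigma M := Cfsg.Agent.Lib.Helper46.BG.mem_sigma_of_mem_alpha hG hy.h1405 hM hr.1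
  have hr'σH : r' ∈ sigma H :=
    Cfsg.Agent.Lib.Helper46.BG.mem_sigma_of_mem_alpha hG hy.h1405 hH hr'.1
  obtain ⟨S⟩ : Nonempty (Sylow r ↥(sigmaCore M)) := inferInstance
  obtain ⟨S'⟩ : Nonempty (Sylow r' ↥(sigmaCore H)) := inferInstance
  obtain ⟨⟨hCX, huX⟩, -⟩ := hy.h1423 M hM r hrσM X hXM hX S (Or.inl hr)
  obtain ⟨⟨hCX', huX'⟩, -⟩ := hy.h1423 H hH r' hr'σH X' hX'H hX' S' (Or.inl hr')
  have hNX : Subgroup.normalizer (X : Set G) ≤ M := by
    have h4 := (hy.h1404 M hM r hrσM X (isPGroup_of_card_eq_prime hX)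
      (ne_bot_of_card_eq_prime hrp hX) hXM).2
    rw [h4]; exact sup_le inf_le_left hCX
  have hNX' : Subgroup.normalizer (X' : Set G) ≤ H := by
    have h4 := (hy.h1404 H hH r' hr'σH X' (isPGroup_of_card_eq_prime hX')
      (ne_bot_of_card_eq_prime hr'p hX') hX'H).2
    rw [h4]; exact sup_le inf_le_left hCX'
  -- the types of `r`, `r'` in `L`
  have hrτ2 : r ∉ tau2 L := hE1 hG hy M L hM hL hLM p P hpM hP hNL r X hX hXP hCX huX
  have hr'τ2 : r' ∉ tau2 L := hE1 hG hy H L hH hL hLH p P hpH hP hNL r' X' hX' hX'P hCX' huX'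
  have cls : ∀ (t : ℕ), t.Prime → t ∉ sigma L → t ∉ tau2 L →
      t ∈ tau3 L ∨ ¬ t ∣ Nat.card ↥⁅L, L⁆ := by
    intro t ht htσ htτ2
    by_cases hd : t ∣ Nat.card ↥⁅L, L⁆
    · left
      refine ⟨ht, htσ, hd, ?_⟩
      by_contra h1
      apply htτ2
      refine ⟨ht, htσ, ?_, h1⟩
      by_contra h2
      exact htσ (Cfsg.Agent.Lib.Helper46.BG.mem_sigma_of_mem_alpha hG hy.h1405 hL ⟨ht, h2⟩)
    · right; exact hd
  have hC'L' : ⁅Subgroup.centralizer (P : Set G), Subgroup.centralizer (P : Set G)⁆ ≤ ⁅L, L⁆ :=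
    Subgroup.commutator_mono hCL hCL
  rcases cls r hrp hrL hrτ2 with h3 | h1
  · obtain ⟨c, hc, hc'⟩ := hE2 hG hy L hL r X h3 hX (Subgroup.centralizer (P : Set G)) hCL hXP
      r' X' hr'p hr'L (isPGroup_of_card_eq_prime hX') hX'P
    exact ⟨c, hc, Or.inl (hc'.trans hNX)⟩
  · rcases cls r' hr'p hr'L hr'τ2 with h3' | h1'
    · obtain ⟨c, hc, hc'⟩ := hE2 hG hy L hL r' X' h3' hX' (Subgroup.centralizer (P : Set G)) hCL
        hX'P r X hrp hrL (isPGroup_of_card_eq_prime hX) hXP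
      exact ⟨c, hc, Or.inr (hc'.trans hNX')⟩
    · obtain ⟨c, hc, hc'⟩ := hE3 (Subgroup.centralizer (P : Set G)) X X' r r' hrp hr'p hXP hX'P
        (isPGroup_of_card_eq_prime hX) (isPGroup_of_card_eq_prime hX')
        (fun h => h1 (h.trans (Subgroup.card_dvd_of_le hC'L')))
        (fun h => h1' (h.trans (Subgroup.card_dvd_of_le hC'L')))
      exact ⟨c, hc, Or.inl (hc'.trans hCX)⟩

end Cfsg.Agent.Lib.Helper98.BG13
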