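import Mathlib
import Cfsg.Statements.S1378
import Cfsg.Agent.Lib.Helper98.BG.SigmaB
import Cfsg.Agent.Lib.Helper68.BG.SigmaD
import Cfsg.Agent.Lib.Helper90.BG.SigmaE
import Cfsg.Agent.Lib.Helper67.BG.Fusion

/-!
# Sigma-partition project: glue (helper98)

`sigma_partition_of` : the partition from the packages still pending (C1, C2, C3, F), with
A, B (helper98), D (helper68), E (helper90) plugged in; `s1378_of_partition` : the frozen
statement S1378 from the partition.
-/

set_option autoImplicit false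
set_option linter.style.haveILetI false

namespace Cfsg.Agent.Lib.Helper98.BG13

open Cfsg Cfsg.Agent.Lib.Helper46 Cfsg.Agent.Lib.Helper35.BG

universe u

theorem sigma_partition_of (hLC1 : LemC1.{u}) (hLC2 : LemC2.{u}) (hLC3 : LemC3.{u})
    (hLF : LemF.{u}) {G : Type u} [Group G] [Finite G]
    (hG : Cfsg.IsMinSimpleOddOrder G) (hy : Hy hG) :
    ∀ M N : Subgroup G, IsCoatom M → IsCoatom N → (Cfsg.sigma M ∩ Cfsg.sigma N).Nonempty →
      ∃ g : G, N = M.map (MulAut.conj g).toMonoidHom :=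
  sigma_partition_of_pkgs hLC1 hLC2 hLC3 (Cfsg.Agent.Lib.Helper68.BG.lemD lemA lemB)
    Cfsg.Agent.Lib.Helper90.BG.lemE hLF hG hy

/-- The frozen statement S1378 from the second clause (the partition). -/
theorem s1378_of_partition {G : Type u} [Group G] [Finite G] (hG : Cfsg.IsMinSimpleOddOrder G)
    (hpart : ∀ M N : Subgroup G, IsCoatom M → IsCoatom N →
      (Cfsg.sigma M ∩ Cfsg.sigma N).Nonempty →
      ∃ g : G, N = M.map (MulAut.conj g).toMonoidHom) :
    type_of% (@Cfsg.CfsgFrozen.S1378 G _ _ hG) := by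
  refine ⟨?_, hpart⟩
  intro p hp hdvd
  haveI : Fact p.Prime := ⟨hp⟩
  obtain ⟨P⟩ : Nonempty (Sylow p G) := inferInstance
  have hP1 : (P : Subgroup G) ≠ ⊥ := P.ne_bot_of_dvd_card hdvd
  obtain ⟨M, hM, hNM⟩ := exists_coatom_ge
    (normalizer_ne_top hG hP1 (Cfsg.Agent.Lib.Helper67.BG.sylow_ne_top_of_minSimple hG p P))
  have hPM : (P : Subgroup G) ≤ M := Subgroup.le_normalizer.trans hNM
  have hsyl : IsSylowIn p (P : Subgroup G) ⊤ :=
    ⟨le_top, by rw [Sylow.card_eq_multiplicity, Subgroup.card_top]⟩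
  have hsylM : IsSylowIn p (P : Subgroup G) M := sylIn_mono hsyl hPM le_top
  refine ⟨M, hM, Cfsg.Agent.Lib.Helper27.BG.mem_sigma_of_isSylowIn hsylM ?_ hNM⟩
  exact (Cfsg.Agent.Lib.Helper67.BG.dvd_card_of_isPGroup_ne_bot P.isPGroup' hP1).trans
    (Subgroup.card_dvd_of_le hPM)

end Cfsg.Agent.Lib.Helper98.BG13
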