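import Mathlib
import Cfsg.Agent.Lib.Helper98.BG.SigmaGlue
import Cfsg.Agent.Lib.Helper64.BG.SigmaC1
import Cfsg.Agent.Lib.Helper76.BG.SigmaC2
import Cfsg.Agent.Lib.Helper62.BG.SigmaC3
import Cfsg.Agent.Lib.Helper86.BG.SigmaF

/-!
# The sigma-partition (Bender–Glauberman Theorem 13.9), without S1430: final statement

Project SIGMA13 (helper98; packages by helper62, helper64, helper68, helper76, helper86,
helper90).  `sigma_partition` : non-conjugate maximal subgroups have disjoint `σ`-sets;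
`s1378_free` : the frozen statement S1378 from S1403, S1404, S1405, S1409, S1414, S1415,
S1417, S1418, S1422, S1423, S1426, S1427, S1428.
-/

set_option autoImplicit false

namespace Cfsg.Agent.Lib.Helper98.BG13

open Cfsg

universe u

/-- **Sigma-partition (B&G 13.9)**: maximal subgroups with a common prime in their `σ`-sets
are conjugate. -/
theorem sigma_partition {G : Type u} [Group G] [Finite G]
    (hG : Cfsg.IsMinSimpleOddOrder G) (hy : Hy hG) :
    ∀ M N : Subgroup G, IsCoatom M → IsCoatom N → (Cfsg.sigma M ∩ Cfsg.sigma N).Nonempty →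
      ∃ g : G, N = M.map (MulAut.conj g).toMonoidHom :=
  sigma_partition_of (Cfsg.Agent.Lib.Helper64.BG.lemC1 lemA)
    (Cfsg.Agent.Lib.Helper76.BG.lemC2 lemA lemB (Cfsg.Agent.Lib.Helper64.BG.lemC1 lemA))
    (Cfsg.Agent.Lib.Helper62.BG.lemC3 lemA lemB) Cfsg.Agent.Lib.Helper86.BG.lemF hG hy

/-- Statement S1378 from the earlier statements, without S1430. -/
theorem s1378_free {G : Type u} [Group G] [Finite G] (hG : Cfsg.IsMinSimpleOddOrder G)
    (h1403 : type_of% (@Cfsg.CfsgFrozen.S1403 G _ _ hG))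
    (h1404 : type_of% (@Cfsg.CfsgFrozen.S1404 G _ _ hG))
    (h1405 : type_of% (@Cfsg.CfsgFrozen.S1405 G _ _ hG))
    (h1409 : type_of% (@Cfsg.CfsgFrozen.S1409 G _ _ hG))
    (h1414 : type_of% (@Cfsg.CfsgFrozen.S1414 G _ _ hG))
    (h1415 : type_of% (@Cfsg.CfsgFrozen.S1415 G _ _ hG))
    (h1417 : type_of% (@Cfsg.CfsgFrozen.S1417 G _ _ hG))
    (h1418 : type_of% (@Cfsg.CfsgFrozen.S1418 G _ _ hG))
    (h1422 : type_of% (@Cfsg.CfsgFrozen.S1422 G _ _ hG))
    (h1423 : type_of% (@Cfsg.CfsgFrozen.S1423 G _ _ hG))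
    (h1426 : type_of% (@Cfsg.CfsgFrozen.S1426 G _ _ hG))
    (h1427 : type_of% (@Cfsg.CfsgFrozen.S1427 G _ _ hG))
    (h1428 : type_of% (@Cfsg.CfsgFrozen.S1428 G _ _ hG)) :
    type_of% (@Cfsg.CfsgFrozen.S1378 G _ _ hG) :=
  s1378_of_partition hG (sigma_partition hG
    ⟨h1403, h1404, h1405, h1409, h1414, h1415, h1417, h1418, h1422, h1423, h1426, h1427, h1428⟩)

end Cfsg.Agent.Lib.Helper98.BG13
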